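import Groth.Agent.Cons51.ClosedPoints

/-!
# Sheaves supported at closed points of a Noetherian scheme
-/

set_option autoImplicit false
set_option backward.isDefEq.respectTransparency.types false
universe u

open CategoryTheory CategoryTheory.Limits CategoryTheory.Abelian AlgebraicGeometry Topology TopologicalSpace Opposite
open Groth.Agent.Unr55.EtSh Groth.Agent.EtCore45 Groth.Agent.Cons51

namespace Groth.Agent.HL47

variable {X : Scheme.{u}}

/-- Cohomology of the sections supported at one closed point. -/
theorem isZero_H_sub1 (F : EtCoh.Ab X) {x : X} (hx : IsClosed ({x} : Set X)) (q : ℕ)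
    (h : Subsingleton (EtCoh.H (Spec (X.residueField x)) ((EtCoh.pull (X.fromSpecResidueField x)).obj
      (sub1 F hx)) q)) :
    IsZero ((EtCoh.HF X q).obj (sub1 F hx)) := by
  let i := X.fromSpecResidueField x
  have hi : IsClosedImmersion i := (isClosed_singleton_iff_isClosedImmersion (x := x)).1 hx
  have hr : Set.range i = {x} := X.range_fromSpecResidueField x
  let j := (comp1 hx).ι
  let A := sub1 F hx
  have hZU : Set.range j = (Set.range i)ᶜ := by rw [hr, Scheme.Opens.range_ι]; rfl
  have := isIso_pull_unit_closed i A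
  have : IsIso ((EtCoh.pull j).map ((EtCoh.pullPushAdj i).unit.app A)) :=
    isIso_of_source_target_iso_zero _ (isZero_pull_sub1 F hx).isoZero
      (isZero_pull_push i j hZU _).isoZero
  have := isIso_of_pulls i j hZU ((EtCoh.pullPushAdj i).unit.app A)
  refine IsZero.of_iso ?_ ((EtCoh.HF X q).mapIso (asIso ((EtCoh.pullPushAdj i).unit.app A)))
  have : Subsingleton (EtCoh.H (Spec (X.residueField x)) ((EtCoh.pull i).obj A) q) := h
  have := preservesFiniteLimits_pull i
  have hb := adjTransfer_bijective.{u + 1} (EtCoh.pullPushAdj i) (EtCore.pullConst i ℤ).inv q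
    ((EtCoh.pull i).obj A) (fun p hp => isZero_Rpush_of_finite i _ p hp)
  exact @AddCommGrpCat.isZero_of_subsingleton _ hb.1.subsingleton

/-- Cohomology of a sheaf supported at closed points, from that of their residue fields. -/
theorem subsingleton_H_of_supp_closed [IsNoetherian X] (F : EtCoh.Ab X)
    (hF : ∀ x ∈ EtPBC.supp F, IsClosed ({x} : Set X)) (q : ℕ)
    (h : ∀ x (hx : x ∈ EtPBC.supp F), Subsingleton (EtCoh.H (Spec (X.residueField x))
      ((EtCoh.pull (X.fromSpecResidueField x)).obj (sub1 F (hF x hx))) q)) :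
    Subsingleton (EtCoh.H X F q) := by
  let α : Type (u + 1) := ULift.{u + 1} (EtPBC.supp F)
  let hc : ∀ x : α, IsClosed ({x.down.1} : Set X) := fun x => hF x.down.1 x.down.2
  let A : α → EtCoh.Ab X := fun x => sub1 F (hc x)
  let p : ∐ A ⟶ F := Sigma.desc fun x => kernel.ι ((EtCoh.pullPushAdj (comp1 (hc x)).ι).unit.app F)
  have : IsIso p := by
    refine isIso_of_stalks p fun Ω _ _ η => ?_
    have : PreservesColimitsOfSize.{u + 1, u + 1} (EtCoh.stalk η) :=
      (Scheme.pointSmallEtale η).skyscraperSheafAdjunction.leftAdjoint_preservesColimits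
    let hcs := isColimitOfPreserves (EtCoh.stalk η) (coproductIsCoproduct A)
    by_cases hx0 : η default ∈ EtPBC.supp F
    · let x0 : α := ⟨⟨η default, hx0⟩⟩
      have hepi : Epi ((EtCoh.stalk η).map (Sigma.ι A x0)) := ⟨fun g h hgh => hcs.hom_ext fun ⟨x⟩ => by
        by_cases hxx : x = x0
        · subst hxx; exact hgh
        · exact (isZero_stalk_sub1 F (hc x) η (fun e => hxx (ULift.ext _ _ (Subtype.ext e.symm)))).eq_of_src _ _⟩
      have hsur := (AddCommGrpCat.epi_iff_surjective _).1 hepi
      have hcomp : ∀ w, (EtCoh.stalk η).map p ((EtCoh.stalk η).map (Sigma.ι A x0) w) =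
          (EtCoh.stalk η).map (kernel.ι ((EtCoh.pullPushAdj (comp1 (hc x0)).ι).unit.app F)) w := fun w => by
        rw [← ConcreteCategory.comp_apply, ← Functor.map_comp, Sigma.ι_desc]
      refine ⟨fun z z' hz => ?_, fun t => ?_⟩
      · obtain ⟨w, rfl⟩ := hsur z
        obtain ⟨w', rfl⟩ := hsur z'
        rw [hcomp, hcomp] at hz
        exact congrArg _ ((AddCommGrpCat.mono_iff_injective _).1 inferInstance hz)
      · obtain ⟨b, hb⟩ := exists_sub1_germ hF (hc x0) η rfl t
        exact ⟨_, (hcomp b).trans hb⟩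
    · have hzF : IsZero ((EtCoh.stalk η).obj F) := by
        by_contra hne
        exact hx0 ⟨Ω, inferInstance, inferInstance, η, (range_eq_singleton η _).2 rfl, hne⟩
      have hzA : IsZero ((EtCoh.stalk η).obj (∐ A)) := (IsZero.iff_id_eq_zero _).2 (hcs.hom_ext fun ⟨x⟩ =>
        (isZero_stalk_sub1 F (hc x) η (fun e => hx0 (e ▸ x.down.2))).eq_of_src _ _)
      have := AddCommGrpCat.subsingleton_of_isZero hzF
      have := AddCommGrpCat.subsingleton_of_isZero hzA
      exact ⟨fun z z' _ => Subsingleton.elim _ _, fun t => ⟨0, Subsingleton.elim _ _⟩⟩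
  suffices IsZero ((EtCoh.HF X q).obj (∐ A)) from
    AddCommGrpCat.subsingleton_of_isZero (this.of_iso ((EtCoh.HF X q).mapIso (asIso p).symm))
  have := Unr55.HColim.preservesColimitsOfShape_HF (X := X) (Finset (Discrete α)) q
  let hcH := isColimitOfPreserves (EtCoh.HF X q) (CoproductsFromFiniteFiltered.isColimitFiniteSubproductsCocone A)
  refine (IsZero.iff_id_eq_zero _).2 (hcH.hom_ext fun S => ?_)
  refine IsZero.eq_of_src ?_ _ _
  have := DCoh.additive_HF (X := X) q
  have : PreservesFiniteCoproducts (EtCoh.HF X q) := inferInstance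
  have : PreservesColimitsOfShape (Discrete (Fin (Nat.card (S : Finset (Discrete α))))) (EtCoh.HF X q) :=
    PreservesFiniteCoproducts.preserves _
  have : PreservesColimitsOfShape (Discrete (S : Finset (Discrete α))) (EtCoh.HF X q) :=
    preservesColimitsOfShape_of_equiv (Discrete.equivalence (Finite.equivFin (S : Finset (Discrete α))).symm) _
  let hS := isColimitOfPreserves (EtCoh.HF X q) (colimit.isColimit (Discrete.functor fun y : S => A y.1.as))
  exact (IsZero.iff_id_eq_zero _).2 (hS.hom_ext fun ⟨y⟩ => (isZero_H_sub1 F (hc y.1.as) q (h _ y.1.as.down.2)).eq_of_src _ _)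

end Groth.Agent.HL47
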