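import Groth.Agent.HL47.Procyclic
import Groth.Agent.Tame97.Main
import Mathlib.FieldTheory.KummerExtension
import Mathlib.FieldTheory.Galois.Infinite
import Mathlib.RingTheory.Polynomial.Eisenstein.Basic
import Mathlib.RingTheory.Polynomial.GaussLemma

/-!
# Fraction fields of strictly henselian discrete valuation rings of residue characteristic zero
-/

set_option autoImplicit false
universe u

open Polynomial IsLocalRing IntermediateField

namespace Groth.Agent.HL47

variable {R : Type u} [CommRing R] [IsDomain R] [IsDiscreteValuationRing R]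
  {K : Type u} [Field K] [Algebra R K] [IsFractionRing R K]

theorem irreducible_X_pow_sub_C_uniformizer {ϖ : R} (hϖ : Irreducible ϖ) {r : ℕ} (hr : 0 < r) :
    Irreducible (X ^ r - C (algebraMap R K ϖ) : K[X]) := by
  have hm : (X ^ r - C ϖ : R[X]).Monic := monic_X_pow_sub_C ϖ hr.ne'
  have h : Irreducible (X ^ r - C ϖ : R[X]) := by
    refine Polynomial.IsEisensteinAt.irreducible (𝓟 := maximalIdeal R) ?_ inferInstance hm.isPrimitive
      (by rwa [natDegree_X_pow_sub_C])
    refine ⟨?_, fun {n} hn => ?_, ?_⟩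
    · rw [hm.leadingCoeff]
      exact fun h => (maximalIdeal.isMaximal R).ne_top ((Ideal.eq_top_iff_one _).2 h)
    · rw [natDegree_X_pow_sub_C] at hn
      rw [coeff_sub, coeff_X_pow, if_neg hn.ne, zero_sub, neg_mem_iff, coeff_C]
      split_ifs
      · exact hϖ.not_isUnit
      · exact zero_mem _
    · rw [coeff_sub, coeff_X_pow, if_neg hr.ne, zero_sub, coeff_C_zero, neg_mem_iff,
        hϖ.maximalIdeal_eq, Ideal.span_singleton_pow, Ideal.mem_span_singleton]
      intro h
      exact hϖ.not_isUnit (by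
        obtain ⟨c, hc⟩ := h
        refine IsUnit.of_mul_eq_one c ?_
        have h1 : ϖ * 1 = ϖ * (ϖ * c) := by rw [mul_one, ← mul_assoc, ← sq]; exact hc
        exact (mul_left_cancel₀ hϖ.ne_zero h1).symm)
  have h2 := hm.irreducible_iff_irreducible_map_fraction_map (K := K) |>.1 h
  rwa [Polynomial.map_sub, Polynomial.map_pow, Polynomial.map_X, Polynomial.map_C] at h2

variable [HenselianLocalRing R] [IsSepClosed (ResidueField R)]

/-- Finite extensions lie in Kummer extensions of any divisible enough degree. -/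
theorem cycExt_of_strictlyHenselian (h0 : ∀ n : ℕ, 0 < n → IsUnit (n : ResidueField R)) : CycExt K := by
  intro L _ _ _ _ m hm
  classical
  have hchar : CharZero K := charZero_of_inj_zero fun n hn => by
    by_contra hne
    have h1 : (n : R) = 0 := IsFractionRing.injective R K (by rw [map_natCast, hn, map_zero])
    exact (h0 n (Nat.pos_of_ne_zero hne)).ne_zero (by rw [← map_natCast (residue R), h1, map_zero])
  let Ω := AlgebraicClosure K
  have : IsGalois K Ω := ⟨⟩
  let σL : L →ₐ[K] Ω := IsAlgClosed.lift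
  let M : IntermediateField K Ω := IntermediateField.normalClosure K L Ω
  have : FiniteDimensional K M := normalClosure.is_finiteDimensional K L Ω
  have : Normal K M := normalClosure.normal K L Ω
  have : IsGalois K M := ⟨⟩
  let r := Module.finrank K M * m
  have hr0 : 0 < r := Nat.mul_pos Module.finrank_pos hm
  have : NeZero r := ⟨hr0.ne'⟩
  obtain ⟨ϖ, hϖ⟩ := IsDiscreteValuationRing.exists_irreducible R
  obtain ⟨ρ, hρ⟩ := IsAlgClosed.exists_pow_nat_eq (algebraMap K Ω (algebraMap R K ϖ)) hr0
  have hζ : (primitiveRoots r K).Nonempty := by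
    have : NeZero (r : Ω) := ⟨Nat.cast_ne_zero.2 hr0.ne'⟩
    obtain ⟨ζ, hζ⟩ := HasEnoughRootsOfUnity.exists_primitiveRoot Ω r
    obtain ⟨ξ, rfl⟩ := Tame97.root_mem_range (R := R) (K := K) r (h0 r hr0) hζ.pow_eq_one
    exact ⟨ξ, (mem_primitiveRoots hr0).2 (hζ.of_map_of_injective (algebraMap K Ω).injective)⟩
  let N : IntermediateField K Ω := K⟮ρ⟯
  have hint : IsIntegral K ρ := Algebra.IsIntegral.isIntegral ρ
  have : FiniteDimensional K N := IntermediateField.adjoin.finiteDimensional hint
  have hirr := irreducible_X_pow_sub_C_uniformizer (K := K) hϖ hr0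
  have hmin : minpoly K ρ = X ^ r - C (algebraMap R K ϖ) :=
    (minpoly.eq_of_irreducible_of_monic hirr (by simp [hρ]) (monic_X_pow_sub_C _ hr0.ne')).symm
  have hfin : Module.finrank K N = r := by
    rw [IntermediateField.adjoin.finrank hint, hmin, natDegree_X_pow_sub_C]
  let α : N := AdjoinSimple.gen K ρ
  have hα : α ^ Module.finrank K N = algebraMap K N (algebraMap R K ϖ) := by
    rw [hfin]
    exact Subtype.ext hρ
  have hsplit : IsSplittingField K N (X ^ Module.finrank K N - C (algebraMap R K ϖ)) :=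
    isSplittingField_X_pow_sub_C_of_root_adjoin_eq_top (by rwa [hfin]) hα (IntermediateField.map_injective N.val (by
      rw [IntermediateField.adjoin_map, Set.image_singleton, ← AlgHom.fieldRange_eq_map, IntermediateField.fieldRange_val]
      rfl))
  have hirr' : Irreducible (X ^ Module.finrank K N - C (algebraMap R K ϖ) : K[X]) := by rwa [hfin]
  have hζ' : (primitiveRoots (Module.finrank K N) K).Nonempty := by rwa [hfin]
  have : NeZero (Module.finrank K N) := ⟨by rw [hfin]; exact hr0.ne'⟩
  have hgal : IsGalois K N := isGalois_of_isSplittingField_X_pow_sub_C hζ' hirr' N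
  have hcyc : IsCyclic (N ≃ₐ[K] N) := isCyclic_of_isSplittingField_X_pow_sub_C hζ' hirr' N
  have hle : M ≤ N := by
    rw [← InfiniteGalois.fixedField_fixingSubgroup N]
    intro x hx
    rw [IntermediateField.mem_fixedField_iff]
    intro σ hσ
    obtain ⟨τ, ν, rfl⟩ := Tame97.exists_pow_mul_pow_gal (R := R) r (h0 r hr0) ϖ hϖ ρ hρ σ
      ((IntermediateField.mem_fixingSubgroup_iff _ _).1 hσ ρ (mem_adjoin_simple_self K ρ))
    have h1 : ∀ g : M ≃ₐ[K] M, g ^ r = 1 := fun g => by
      rw [show r = Nat.card (M ≃ₐ[K] M) * m by rw [IsGalois.card_aut_eq_finrank], pow_mul, pow_card_eq_one',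
        one_pow]
    have h2 : AlgEquiv.restrictNormalHom M (τ ^ r * ν ^ r) ⟨x, hx⟩ = (⟨x, hx⟩ : M) := by
      rw [map_mul, map_pow, map_pow, h1, h1, one_mul]
      rfl
    have h3 := congrArg Subtype.val h2
    rwa [show ((AlgEquiv.restrictNormalHom M (τ ^ r * ν ^ r) ⟨x, hx⟩ : M) : Ω) = (τ ^ r * ν ^ r) x from
      AlgEquiv.restrictNormal_commutes (τ ^ r * ν ^ r) M ⟨x, hx⟩] at h3
  refine ⟨N, inferInstance, inferInstance, inferInstance, Algebra.IsAlgebraic.isSeparable_of_perfectField,
    hgal, hcyc, ?_, ?_⟩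
  · rw [hfin]
    exact Dvd.intro_left _ rfl
  · exact ⟨σL.codRestrict N.toSubalgebra fun y => hle ((le_iSup (fun f : L →ₐ[K] Ω => f.fieldRange) σL) ⟨y, rfl⟩)⟩

end Groth.Agent.HL47
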