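import Groth.Agent.HL47.Procyclic
import Groth.Agent.HL47.Strict
import Groth.Agent.HL47.ClosedSupp
import Groth.Agent.GalCoh84.Devissage
import Groth.Agent.PBC51.Van.Basic
import Groth.Agent.Strict24.SHDvr
import Groth.Agent.Unr55.Et.ZeroDim
import Mathlib.RingTheory.Localization.BaseChange

/-!
# Higher direct images from the generic point of a normal one-dimensional scheme
-/

set_option autoImplicit false
set_option backward.isDefEq.respectTransparency.types false
universe u

open CategoryTheory CategoryTheory.Limits CategoryTheory.Abelian AlgebraicGeometry Opposite IsLocalRing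
open Groth.Agent Groth.Agent.GalCoh84 Groth.Agent.PBC51.Van

namespace Groth.Agent.HL47

theorem isTorsion_of_mono {X : Scheme.{u}} {A B : EtCoh.Ab X} (i : A ⟶ B) [Mono i] (hB : EtCoh.IsTorsion B) :
    EtCoh.IsTorsion A := by
  refine (Cons51.isTorsion_iff_stalks _).2 fun K _ _ η a => ?_
  have hinj := (AddCommGrpCat.mono_iff_injective ((EtCoh.stalk η).map i)).1 inferInstance
  exact (hinj.isOfFinAddOrder_iff (f := ((EtCoh.stalk η).map i).hom)).1 ((Cons51.isTorsion_iff_stalks B).1 hB K η _)

/-- `cd ≤ d` gives vanishing for all sheaves above `d + 1`. -/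
theorem eq_zero_of_cohDimLE {k : Type u} [Field k] {d q : ℕ} (hcd : EtCoh.CohDimLE (Spec (CommRingCat.of k)) d)
    (F : EtCoh.Ab (Spec (CommRingCat.of k))) (hq : d + 2 ≤ q) (x : EtCoh.H (Spec (CommRingCat.of k)) F q) :
    x = 0 := by
  obtain ⟨q, rfl⟩ : ∃ q', q = q' + 1 := ⟨q - 1, by omega⟩
  obtain ⟨n, hn, hx⟩ := isOfFinAddOrder_iff_nsmul_eq_zero.1 (isOfFinAddOrder_H (Nat.succ_pos q) x)
  refine eq_zero_of_killed n (fun G hG y => ?_) (fun G hG y => ?_) x hx
  · exact (hcd G (isTorsion_of_nsmul_id hn hG) q (by omega)).elim _ _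
  · exact (hcd G (isTorsion_of_nsmul_id hn hG) (q + 1) (by omega)).elim _ _

theorem subsingleton_of_cohDimLE {k : Type u} [Field k] {d q : ℕ}
    (hcd : EtCoh.CohDimLE (Spec (CommRingCat.of k)) d) (F : EtCoh.Ab (Spec (CommRingCat.of k))) (hq : d + 2 ≤ q) :
    Subsingleton (EtCoh.H (Spec (CommRingCat.of k)) F q) :=
  ⟨fun a b => (eq_zero_of_cohDimLE hcd F hq a).trans (eq_zero_of_cohDimLE hcd F hq b).symm⟩

theorem injective_Hpull_of_iso {X Y : Scheme.{u}} (e : X ⟶ Y) [IsIso e] (F : EtCoh.Ab Y) (n : ℕ) :
    haveI := Unr55.EtSh.preservesFiniteLimits_pull e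
    Function.Injective (EtCore.Hpull e F n) :=
  (EtCore45.Hpull_bijective_uh e F n).1

section ring

variable {A S : Type u} [CommRing A] [IsDomain A] [CommRing S] [IsLocalRing S] [IsDomain S] [Algebra A S]

/-- The generic fibre of an extension all whose nonzero elements divide nonzero constants. -/
theorem isLocalization_fractionRing (hinj : Function.Injective (algebraMap A S))
    (hdvd : ∀ s : S, s ≠ 0 → ∃ a : A, a ≠ 0 ∧ s ∣ algebraMap A S a) :
    IsLocalization (Algebra.algebraMapSubmonoid S (nonZeroDivisors A)) (FractionRing S) := by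
  refine { map_units := ?_, surj := fun z => ?_, exists_of_eq := fun {x y} h => ?_ }
  · rintro ⟨_, a, ha, rfl⟩
    exact isUnit_iff_ne_zero.2 ((map_ne_zero_iff _ (IsFractionRing.injective S (FractionRing S))).2
      ((map_ne_zero_iff _ hinj).2 (nonZeroDivisors.ne_zero ha)))
  · obtain ⟨⟨n, d, hd⟩, hz⟩ := IsLocalization.surj (nonZeroDivisors S) z
    obtain ⟨a, ha, c, hc⟩ := hdvd d (nonZeroDivisors.ne_zero hd)
    refine ⟨⟨n * c, ⟨algebraMap A S a, a, mem_nonZeroDivisors_of_ne_zero ha, rfl⟩⟩, ?_⟩
    show z * algebraMap S _ (algebraMap A S a) = algebraMap S _ (n * c)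
    rw [hc, map_mul, map_mul, ← mul_assoc, hz]
  · exact ⟨1, congrArg _ (IsFractionRing.injective S (FractionRing S) h)⟩

end ring

section scheme

variable {X : Scheme.{u}} [IsIntegral X]

/-- The morphism from the generic point. -/
noncomputable abbrev genPt (X : Scheme.{u}) [IsIntegral X] : Spec X.functionField ⟶ X :=
  X.fromSpecStalk (genericPoint X)

theorem isPullback_genPt_shTo (x : X) [IsDomain (SH X x)] (hinj : Function.Injective
      (algebraMap (X.presheaf.stalk x) (SH X x)))
    (hdvd : ∀ s : SH X x, s ≠ 0 → ∃ a : X.presheaf.stalk x, a ≠ 0 ∧ s ∣ algebraMap _ (SH X x) a) :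
    ∃ g : Spec (CommRingCat.of (FractionRing (SH X x))) ⟶ Spec X.functionField,
      IsPullback g (Spec.map (CommRingCat.ofHom (algebraMap (SH X x) (FractionRing (SH X x)))))
        (genPt X) (shTo X x) := by
  let A := X.presheaf.stalk x
  let S := SH X x
  let L := FractionRing S
  let K : Type u := X.functionField
  have := isLocalization_fractionRing (A := A) hinj hdvd
  have : Module.IsTorsionFree A L := by
    refine Module.isTorsionFree_iff_algebraMap_injective.2 ?_
    rw [IsScalarTower.algebraMap_eq A S L]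
    exact (IsFractionRing.injective S L).comp hinj
  have hAL : Function.Injective (algebraMap A L) := by
    rw [IsScalarTower.algebraMap_eq A S L]
    exact (IsFractionRing.injective S L).comp hinj
  let : Algebra K L := (IsFractionRing.lift (A := A) (K := K) hAL).toAlgebra
  have hst : IsScalarTower A K L := IsScalarTower.of_algebraMap_eq fun a =>
    (IsFractionRing.lift_algebraMap hAL a).symm
  have hpo : Algebra.IsPushout A K S L :=
    (Algebra.isPushout_of_isLocalization (nonZeroDivisors A) K S L).symm
  refine ⟨Spec.map (CommRingCat.ofHom (algebraMap K L)), ?_⟩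
  have h1 : IsPullback (Spec.map (CommRingCat.ofHom (algebraMap K L)))
      (Spec.map (CommRingCat.ofHom (algebraMap S L)))
      (Spec.map (CommRingCat.ofHom (algebraMap A K))) (Spec.map (CommRingCat.ofHom (algebraMap A S))) :=
    ((CommRingCat.isPushout_of_isPushout A K S L).op.map Scheme.Spec).flip
  have e1 : Spec.map (CommRingCat.ofHom (algebraMap A K)) ≫ X.fromSpecStalk x = genPt X :=
    Scheme.SpecMap_stalkSpecializes_fromSpecStalk ((genericPoint_spec X).specializes trivial)
  refine ⟨⟨by
      rw [← e1]
      exact (Category.assoc _ _ _).symm.trans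
        ((congrArg (· ≫ X.fromSpecStalk x) h1.w).trans (Category.assoc _ _ _))⟩,
    ⟨PullbackCone.IsLimit.mk _ (fun c => h1.lift c.fst c.snd (by
      rw [← cancel_mono (X.fromSpecStalk x), Category.assoc, Category.assoc, e1]
      exact c.condition)) (fun c => h1.lift_fst _ _ _) (fun c => h1.lift_snd _ _ _)
      (fun c m h h' => h1.hom_ext (h.trans (h1.lift_fst _ _ _).symm) (h'.trans (h1.lift_snd _ _ _).symm))⟩⟩

end scheme

theorem isSepClosed_residueField_spec (L : Type u) [Field L] [IsSepClosed L]
    (x : Spec (CommRingCat.of L)) : IsSepClosed ((Spec (CommRingCat.of L)).residueField x) := by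
  have hx : x.asIdeal = ⊥ := (Ideal.eq_bot_or_top x.asIdeal).resolve_right x.isPrime.ne_top
  have : x.asIdeal.IsMaximal := hx ▸ Ideal.bot_isMaximal
  have hb : Function.Bijective (algebraMap L x.asIdeal.ResidueField) := by
    refine ⟨(algebraMap L x.asIdeal.ResidueField).injective, fun y => ?_⟩
    obtain ⟨q, rfl⟩ := (Ideal.bijective_algebraMap_quotient_residueField x.asIdeal).2 y
    obtain ⟨r, rfl⟩ := Ideal.Quotient.mk_surjective q
    exact ⟨r, (IsScalarTower.algebraMap_apply L (L ⧸ x.asIdeal) x.asIdeal.ResidueField r)⟩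
  let E := (RingEquiv.ofBijective _ hb).trans
    (Scheme.Spec.residueFieldIso (CommRingCat.of L) x).commRingCatIsoToRingEquiv.symm
  exact Unr55.isSepClosed_of_surjective E.toRingHom E.surjective

/-- Stalks at geometric points over one point. -/
theorem exists_stalk_addHom {X : Scheme.{u}} (F : EtCoh.Ab X) {Ω Ω' : Type u} [Field Ω] [IsSepClosed Ω]
    [Field Ω'] [IsSepClosed Ω'] (η : Spec (CommRingCat.of Ω) ⟶ X) (η' : Spec (CommRingCat.of Ω') ⟶ X)
    (h : η default = η' default) :
    ∃ b : ((EtCoh.stalk η).obj F : AddCommGrpCat.{u + 1}) →+ ((EtCoh.stalk η').obj F : AddCommGrpCat.{u + 1}),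
      Function.Surjective b := by
  obtain ⟨z, -, -⟩ := Scheme.Pullback.exists_preimage_pullback (f := η) (g := η') default default h
  let K := AlgebraicClosure ((pullback η η').residueField z)
  let k : Spec (CommRingCat.of K) ⟶ pullback η η' :=
    Spec.map (CommRingCat.ofHom (algebraMap ((pullback η η').residueField z) K)) ≫
      (pullback η η').fromSpecResidueField z
  have hk : (k ≫ pullback.fst η η') ≫ η = (k ≫ pullback.snd η η') ≫ η' := by
    simp only [Category.assoc, pullback.condition]
  let e := eqToHom (congrArg (fun r => (EtCoh.stalk (Ω := K) r).obj F) hk)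
  let B := AddEquiv.ofBijective (Cons51.stalkExt (k ≫ pullback.snd η η') η' F).hom
    (Cons51.stalkExt_bijective _ η' F)
  refine ⟨B.symm.toAddMonoidHom.comp (Cons51.stalkExt (k ≫ pullback.fst η η') η F ≫ e).hom, ?_⟩
  exact B.symm.surjective.comp ((ConcreteCategory.bijective_of_isIso e).2.comp
    (Cons51.stalkExt_bijective _ η F).2)

section dims

variable {X : Scheme.{u}} [IsIntegral X]

/-- The hypotheses on a one-dimensional scheme: closed non-generic points with discrete valuation rings,
residue fields of characteristic zero. -/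
structure OneDim (X : Scheme.{u}) [IsIntegral X] : Prop where
  closed : ∀ x : X, x ≠ genericPoint X → IsClosed ({x} : Set X)
  dvr : ∀ x : X, x ≠ genericPoint X → IsDiscreteValuationRing (X.presheaf.stalk x)
  charZero : ∀ x : X, CharZero (X.residueField x)

theorem isUnit_residue_sh (hX : OneDim X) (x : X) (n : ℕ) (hn : 0 < n) :
    IsUnit (n : ResidueField (SH X x)) := by
  have h0 : (n : ResidueField (X.presheaf.stalk x)) ≠ 0 :=
    haveI : CharZero (ResidueField (X.presheaf.stalk x)) := hX.charZero x
    Nat.cast_ne_zero.2 hn.ne'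
  refine isUnit_iff_ne_zero.2 ?_
  rw [← map_natCast (ResidueField.map (algebraMap (X.presheaf.stalk x) (SH X x)))]
  exact (map_ne_zero_iff _ (RingHom.injective _)).2 h0

/-- The fibre of the generic point over a strictly henselian local ring. -/
theorem exists_fibre (hX : OneDim X) (x : X) :
    ∃ (L : Type u) (_ : Field L) (e : Spec (CommRingCat.of L) ⟶ pullback (genPt X) (shTo X x)),
      IsIso e ∧ EtCoh.CohDimLE (Spec (CommRingCat.of L)) 1 ∧ (x = genericPoint X → IsSepClosed L) := by
  let A := X.presheaf.stalk x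
  let S := SH X x
  have hS : Hensel.IsStrictHenselization A S := inferInstance
  have := hS.henselian
  have := isSepClosed_residueSH X x
  by_cases hx : x = genericPoint X
  · have hA : IsField A := by
      subst hx
      exact Field.toIsField X.functionField
    have hm : maximalIdeal S = ⊥ := by
      rw [← S0538.result A S, (IsLocalRing.isField_iff_maximalIdeal_eq.1 hA), Ideal.map_bot]
    have hSF : IsField S := IsLocalRing.isField_iff_maximalIdeal_eq.2 hm
    have : IsDomain S := hSF.isDomain
    let : Field S := hSF.toField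
    have hinj : Function.Injective (algebraMap A S) := by
      let : Field A := hA.toField
      exact (algebraMap A S).injective
    obtain ⟨g, hg⟩ := isPullback_genPt_shTo x hinj fun s hs =>
      ⟨1, one_ne_zero, by rw [map_one]; exact (isUnit_iff_ne_zero.2 hs).dvd⟩
    have h1 : IsSepClosed (FractionRing S) := by
      have hb : Function.Bijective (residue S) :=
        ⟨(residue S).injective, residue_surjective⟩
      let E := (RingEquiv.ofBijective (residue S) hb).symm.trans
        (RingEquiv.ofBijective (algebraMap S (FractionRing S))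
          ⟨IsFractionRing.injective S (FractionRing S), IsFractionRing.surjective_iff_isField.2 hSF⟩)
      exact Unr55.isSepClosed_of_surjective E.toRingHom E.surjective
    refine ⟨FractionRing S, inferInstance, hg.isoPullback.hom, inferInstance, ?_, fun _ => h1⟩
    intro G hG q hq
    have hsub : Subsingleton (Spec (CommRingCat.of (FractionRing S))) :=
      inferInstanceAs (Subsingleton (PrimeSpectrum (FractionRing S)))
    exact Unr55.EtSh.H_subsingleton_zeroDim _
      (fun s => by rw [Set.eq_univ_of_forall fun t => Set.mem_singleton_iff.2 (hsub.elim t s)]; exact isClosed_univ)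
      (fun s => isSepClosed_residueField_spec (FractionRing S) s) G q (by omega)
  · have : IsDiscreteValuationRing A := hX.dvr x hx
    have : IsDomain S := Strict24.isDomain_strictHenselization A S
    have : IsDiscreteValuationRing S := Strict24.isDiscreteValuationRing A S
    obtain ⟨g, hg⟩ := isPullback_genPt_shTo x (Strict24.algebraMap_injective A S) fun s hs => by
      obtain ⟨π, hπ⟩ := IsDiscreteValuationRing.exists_irreducible A
      have hπS : Irreducible (algebraMap A S π) := by
        rw [IsDiscreteValuationRing.irreducible_iff_uniformizer, ← S0538.result A S,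
          (IsDiscreteValuationRing.irreducible_iff_uniformizer π).1 hπ, Ideal.map_span, Set.image_singleton]
      obtain ⟨n, v, rfl⟩ := IsDiscreteValuationRing.eq_unit_mul_pow_irreducible hs hπS
      exact ⟨π ^ n, pow_ne_zero _ hπ.ne_zero, by rw [map_pow]; exact (Units.mul_left_dvd).2 dvd_rfl⟩
    exact ⟨FractionRing S, inferInstance, hg.isoPullback.hom, inferInstance,
      cohDimLE_one_of_cycExt (cycExt_of_strictlyHenselian (R := S) (isUnit_residue_sh hX x)),
      fun h => absurd h hx⟩

/-- Stalks of higher direct images from the generic point are cohomology groups of fields. -/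
theorem exists_stalk_hom (hX : OneDim X) (x : X) :
    ∃ (L : Type u) (_ : Field L) (f : Spec (CommRingCat.of L) ⟶ Spec X.functionField),
      EtCoh.CohDimLE (Spec (CommRingCat.of L)) 1 ∧ (x = genericPoint X → IsSepClosed L) ∧
      ∀ [QuasiCompact (genPt X)] [QuasiSeparated (genPt X)] (G : EtCoh.Ab (Spec X.functionField)) (n : ℕ),
        ∃ ψ : ((EtCoh.stalk (Hens2.geomPt X x (SH X x))).obj ((EtCoh.Rpush (genPt X) n).obj G) :
            AddCommGrpCat.{u + 1}) →+ EtCoh.H (Spec (CommRingCat.of L)) ((EtCoh.pull f).obj G) n,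
          Function.Injective ψ := by
  obtain ⟨L, _, e, he, h1, h2⟩ := exists_fibre hX x
  refine ⟨L, inferInstance, e ≫ pullback.fst (genPt X) (shTo X x), h1, h2, fun {_ _} G n => ?_⟩
  obtain ⟨φ⟩ := EtLim45.nonempty_stalk_Rpush_sh (genPt X) x (SH X x) n
  have := Unr55.EtSh.preservesFiniteLimits_pull e
  let ψ₁ := EtCore.Hpull e ((EtCoh.pull (pullback.fst (genPt X) (shTo X x))).obj G) n
  let ψ₂ := ((EtCoh.HF (Spec (CommRingCat.of L)) n).mapIso
    (((EtCore.pullComp e (pullback.fst (genPt X) (shTo X x))).symm).app G)).addCommGroupIsoToAddEquiv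
  refine ⟨(ψ₂.toAddMonoidHom.comp ψ₁).comp (φ.app G).addCommGroupIsoToAddEquiv.toAddMonoidHom, ?_⟩
  exact (ψ₂.injective.comp (injective_Hpull_of_iso e _ n)).comp (φ.app G).addCommGroupIsoToAddEquiv.injective

variable [QuasiCompact (genPt X)] [QuasiSeparated (genPt X)]

/-- No higher direct images from the generic point in degree at least three. -/
theorem isZero_Rpush_genPt (hX : OneDim X) (G : EtCoh.Ab (Spec X.functionField)) {n : ℕ} (hn : 3 ≤ n) :
    IsZero ((EtCoh.Rpush (genPt X) n).obj G) := by
  refine EtCore45.isZero_of_stalks _ fun K _ _ η => ?_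
  obtain ⟨L, _, f, h1, -, h3⟩ := exists_stalk_hom hX (η default)
  obtain ⟨ψ, hψ⟩ := h3 G n
  have := subsingleton_of_cohDimLE h1 ((EtCoh.pull f).obj G) hn
  have := hψ.subsingleton
  have := Cons51.subsingleton_stalk_of_eq ((EtCoh.Rpush (genPt X) n).obj G)
    (Hens2.geomPt X _ (SH X (η default))) η (geomPt_default X _)
  exact AddCommGrpCat.isZero_of_subsingleton _

/-- Higher direct images from the generic point vanish at the generic point. -/
theorem ne_genericPoint_supp_Rpush (hX : OneDim X) (G : EtCoh.Ab (Spec X.functionField)) {n : ℕ} (hn : 1 ≤ n) :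
    ∀ x ∈ EtPBC.supp ((EtCoh.Rpush (genPt X) n).obj G), x ≠ genericPoint X := by
  rintro x ⟨Ω, _, _, ξ, hξ, hne⟩
  refine fun hx => hne ?_
  obtain ⟨L, _, f, -, h2, h3⟩ := exists_stalk_hom hX (ξ default)
  have hd : ξ default = x := by
    have : ξ default ∈ Set.range ξ := ⟨_, rfl⟩
    rwa [hξ] at this
  have := h2 (hd.trans hx)
  obtain ⟨ψ, hψ⟩ := h3 G n
  have hsub : Subsingleton (Spec (CommRingCat.of L)) := inferInstanceAs (Subsingleton (PrimeSpectrum L))
  have := Unr55.EtSh.H_subsingleton_zeroDim (Spec (CommRingCat.of L))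
    (fun s => by rw [Set.eq_univ_of_forall fun t => Set.mem_singleton_iff.2 (hsub.elim t s)]; exact isClosed_univ)
    (fun s => isSepClosed_residueField_spec L s) ((EtCoh.pull f).obj G) n hn
  have := hψ.subsingleton
  have := Cons51.subsingleton_stalk_of_eq ((EtCoh.Rpush (genPt X) n).obj G)
    (Hens2.geomPt X _ (SH X (ξ default))) ξ (geomPt_default X _)
  exact AddCommGrpCat.isZero_of_subsingleton _

/-- Higher direct images from the generic point are supported at closed points. -/
theorem supp_Rpush_genPt (hX : OneDim X) (G : EtCoh.Ab (Spec X.functionField)) {n : ℕ} (hn : 1 ≤ n) :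
    ∀ x ∈ EtPBC.supp ((EtCoh.Rpush (genPt X) n).obj G), IsClosed ({x} : Set X) :=
  fun x hx => hX.closed x (ne_genericPoint_supp_Rpush hX G hn x hx)

/-- Higher direct images from the generic point are torsion. -/
theorem isTorsion_Rpush_genPt (hX : OneDim X) (G : EtCoh.Ab (Spec X.functionField)) {n : ℕ} (hn : 1 ≤ n) :
    EtCoh.IsTorsion ((EtCoh.Rpush (genPt X) n).obj G) := by
  refine (Cons51.isTorsion_iff_stalks _).2 fun K _ _ η a => ?_
  obtain ⟨L, _, f, -, -, h3⟩ := exists_stalk_hom hX (η default)
  obtain ⟨ψ, hψ⟩ := h3 G n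
  obtain ⟨b, hb⟩ := exists_stalk_addHom ((EtCoh.Rpush (genPt X) n).obj G)
    (Hens2.geomPt X _ (SH X (η default))) η (geomPt_default X _)
  obtain ⟨c, rfl⟩ := hb a
  exact b.isOfFinAddOrder ((hψ.isOfFinAddOrder_iff (f := ψ)).1 (isOfFinAddOrder_H hn _))

end dims

end Groth.Agent.HL47
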