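import Groth.Agent.HL47.Solve
import Groth.Agent.GalCoh84.Hilbert90
import Groth.Agent.GalCoh84.PushInt
import Groth.Agent.Cons51.TorsionCoh
import Mathlib.Algebra.Group.Subgroup.Finite
import Mathlib.GroupTheory.Index

/-!
# Fields whose finite separable extensions lie in arbitrarily large cyclic extensions have `cd ≤ 1`
-/

set_option autoImplicit false
set_option backward.isDefEq.respectTransparency.types false
universe u

open CategoryTheory CategoryTheory.Limits CategoryTheory.Abelian AlgebraicGeometry Opposite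
open Groth.Agent Groth.Agent.GalCoh84

namespace Groth.Agent.HL47

/-- Every finite separable extension embeds in cyclic Galois extensions of degree divisible by any given
positive integer. -/
def CycExt (K : Type u) [Field K] : Prop :=
  ∀ (L : Type u) [Field L] [Algebra K L] [FiniteDimensional K L] [Algebra.IsSeparable K L] (m : ℕ),
    0 < m → ∃ (N : Type u) (_ : Field N) (_ : Algebra K N) (_ : FiniteDimensional K N)
      (_ : Algebra.IsSeparable K N) (_ : IsGalois K N),
      IsCyclic (N ≃ₐ[K] N) ∧ m ∣ Module.finrank K N ∧ Nonempty (L →ₐ[K] N)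

variable {K : Type u} [Field K]

section maps

variable {L N M : Type u} [Field L] [Algebra K L] [FiniteDimensional K L] [Algebra.IsSeparable K L]
  [Field N] [Algebra K N] [FiniteDimensional K N] [Algebra.IsSeparable K N]
  [Field M] [Algebra K M] [FiniteDimensional K M] [Algebra.IsSeparable K M]

theorem map_specMap_comp (F : EtCoh.Ab (Spec (CommRingCat.of K))) (σ : L →ₐ[K] N) (τ : N →ₐ[K] M)
    (s : EtCoh.sect F (specObj K L)) :
    F.obj.map (specMap τ).op (F.obj.map (specMap σ).op s) = F.obj.map (specMap (τ.comp σ)).op s := by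
  rw [← ConcreteCategory.comp_apply, ← Functor.map_comp, ← op_comp, specMap_comp]

theorem map_specMap_top (F : EtCoh.Ab (Spec (CommRingCat.of K))) (σ : L →ₐ[K] N)
    (x : EtCoh.sect F (EtCoh.top _)) :
    F.obj.map (specMap σ).op (F.obj.map ((EtCore.topIsTerminal _).from (specObj K L)).op x) =
      F.obj.map ((EtCore.topIsTerminal _).from (specObj K N)).op x := by
  rw [← ConcreteCategory.comp_apply, ← Functor.map_comp, ← op_comp,
    (EtCore.topIsTerminal _).hom_ext (specMap σ ≫ _) ((EtCore.topIsTerminal _).from (specObj K N))]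

theorem exists_eq_specMap (q : specObj K M ⟶ specObj K N) : ∃ σ : N →ₐ[K] M, specMap σ = q := by
  obtain ⟨α, hα⟩ := Spec.map_surjective (show Spec (CommRingCat.of M) ⟶ Spec (CommRingCat.of N) from q.left)
  have hK : CommRingCat.ofHom (algebraMap K N) ≫ α = CommRingCat.ofHom (algebraMap K M) := by
    apply Spec.map_injective
    rw [Spec.map_comp, hα]
    exact MorphismProperty.Over.w q
  exact ⟨⟨α.hom, fun c => congrArg (fun f : CommRingCat.of K ⟶ CommRingCat.of M => f.hom c) hK⟩,
    MorphismProperty.Over.Hom.ext hα⟩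

end maps

section galois

variable {N N' : Type u} [Field N] [Algebra K N] [FiniteDimensional K N] [Algebra.IsSeparable K N]
  [IsGalois K N] [Field N'] [Algebra K N'] [FiniteDimensional K N'] [Algebra.IsSeparable K N'] [IsGalois K N']

theorem exists_restrict (ι : N →ₐ[K] N') :
    ∃ ρ : (N' ≃ₐ[K] N') →* (N ≃ₐ[K] N), Function.Surjective ρ ∧
      ∀ g, g.toAlgHom.comp ι = ι.comp (ρ g).toAlgHom := by
  let : Algebra N N' := ι.toRingHom.toAlgebra
  have : IsScalarTower K N N' := IsScalarTower.of_algebraMap_eq fun x => (ι.commutes x).symm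
  refine ⟨AlgEquiv.restrictNormalHom N, AlgEquiv.restrictNormalHom_surjective N', fun g => ?_⟩
  exact AlgHom.ext fun x => (AlgEquiv.restrictNormal_commutes g N x).symm

/-- The sum of the conjugates of a section. -/
noncomputable def norm (F : EtCoh.Ab (Spec (CommRingCat.of K))) (s : EtCoh.sect F (specObj K N)) :
    EtCoh.sect F (specObj K N) :=
  ∑ g : N ≃ₐ[K] N, F.obj.map (specMap g.toAlgHom).op s

theorem norm_naturality {F G : EtCoh.Ab (Spec (CommRingCat.of K))} (φ : F ⟶ G)
    (s : EtCoh.sect F (specObj K N)) :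
    norm G (φ.hom.app (op (specObj K N)) s) = φ.hom.app (op (specObj K N)) (norm F s) := by
  rw [norm, norm, map_sum]
  exact Finset.sum_congr rfl fun g _ => (NatTrans.naturality_apply φ.hom (specMap g.toAlgHom).op s).symm

theorem norm_res (F : EtCoh.Ab (Spec (CommRingCat.of K))) (ι : N →ₐ[K] N')
    (s : EtCoh.sect F (specObj K N)) :
    ∃ d : ℕ, d * Module.finrank K N = Module.finrank K N' ∧
      norm F (F.obj.map (specMap ι).op s) = d • F.obj.map (specMap ι).op (norm F s) := by
  classical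
  obtain ⟨ρ, hρ, hc⟩ := exists_restrict ι
  refine ⟨Nat.card ρ.ker, ?_, ?_⟩
  · rw [← IsGalois.card_aut_eq_finrank, ← IsGalois.card_aut_eq_finrank,
      ← ρ.ker.card_mul_index, Subgroup.index_ker, MonoidHom.range_eq_top.2 hρ, Subgroup.card_top]
  · rw [norm, norm, map_sum, Finset.smul_sum, ← Finset.sum_fiberwise (Finset.univ : Finset (N' ≃ₐ[K] N')) ρ]
    refine Finset.sum_congr rfl fun g _ => ?_
    obtain ⟨g', rfl⟩ := hρ g
    have hcard : (Finset.univ.filter fun x => ρ x = ρ g').card = Nat.card ρ.ker := by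
      rw [MonoidHom.card_fiber_eq_of_mem_range ρ (y := 1) ⟨g', rfl⟩ ⟨1, map_one ρ⟩,
        Nat.card_eq_fintype_card, Fintype.card_subtype]
      exact congrArg Finset.card (Finset.filter_congr fun x _ => MonoidHom.mem_ker.symm)
    rw [← hcard, ← Finset.sum_const]
    refine Finset.sum_congr rfl fun x hx => ?_
    rw [map_specMap_comp, map_specMap_comp, hc, (Finset.mem_filter.1 hx).2]

theorem norm_res_eq_zero (F : EtCoh.Ab (Spec (CommRingCat.of K))) (ι : N →ₐ[K] N')
    (s : EtCoh.sect F (specObj K N)) {m : ℕ} (hm : m • norm F s = 0)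
    (hd : m * Module.finrank K N ∣ Module.finrank K N') : norm F (F.obj.map (specMap ι).op s) = 0 := by
  obtain ⟨d, hd', h⟩ := norm_res F ι s
  rw [← hd'] at hd
  obtain ⟨e, rfl⟩ := Nat.dvd_of_mul_dvd_mul_right Module.finrank_pos hd
  rw [h, mul_nsmul, ← map_nsmul, hm, map_zero, nsmul_zero]

end galois

/-- A section of a torsion sheaf over a finite separable extension has finite order. -/
theorem isOfFinAddOrder_sect {L : Type u} [Field L] [Algebra K L] [FiniteDimensional K L]
    [Algebra.IsSeparable K L] {F : EtCoh.Ab (Spec (CommRingCat.of K))} (hF : EtCoh.IsTorsion F)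
    (s : EtCoh.sect F (specObj K L)) : IsOfFinAddOrder s := by
  obtain ⟨V, g, ⟨v, hv⟩, h⟩ := hF (specObj K L) s (⊥ : PrimeSpectrum L)
  refine isOfFinAddOrder_iff_nsmul_eq_zero.2 ⟨addOrderOf (F.obj.map g.op s), h.addOrderOf_pos, ?_⟩
  refine Unr55.EtSh.sect_eq_zero_of_local F _ fun x => ⟨V, g, v, Subsingleton.elim (α := PrimeSpectrum L) _ _, ?_⟩
  exact (map_nsmul (F.obj.map g.op).hom _ _).trans (addOrderOf_nsmul_eq_zero _)

variable {P C : EtCoh.Ab (Spec (CommRingCat.of K))} (g : P ⟶ C) [Epi g]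

/-- A section of a quotient of a torsion sheaf lifts with norm zero over a large cyclic extension. -/
theorem exists_lift_norm_zero (hK : CycExt K) (hP : EtCoh.IsTorsion P) {N : Type u} [Field N] [Algebra K N]
    [FiniteDimensional K N] [Algebra.IsSeparable K N] (c : EtCoh.sect C (specObj K N)) :
    ∃ (N' : Type u) (_ : Field N') (_ : Algebra K N') (_ : FiniteDimensional K N')
      (_ : Algebra.IsSeparable K N') (_ : IsGalois K N'),
      IsCyclic (N' ≃ₐ[K] N') ∧ ∃ (ι : N →ₐ[K] N') (p : EtCoh.sect P (specObj K N')),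
        g.hom.app (op (specObj K N')) p = C.obj.map (specMap ι).op c ∧ norm P p = 0 := by
  have : Sheaf.IsLocallySurjective g := (Sheaf.isLocallySurjective_iff_epi' AddCommGrpCat.{u + 1} g).2 ‹_›
  have hS := Unr55.EtaleAff.mem_topology_iff
    (Presheaf.imageSieve_mem (Spec (CommRingCat.of K)).smallEtaleTopology g.hom c)
  obtain ⟨V, f, v, hf, -, -⟩ :=
    (Scheme.mem_toGrothendieck_smallPretopology _ _).1 hS (⊥ : PrimeSpectrum N)
  obtain ⟨p₀, hp₀⟩ := hf
  obtain ⟨ι, M, _, _, _, _, e, he⟩ := (EtCore45.etale_field_iff V.hom).1 V.prop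
  obtain ⟨⟨i, x⟩, -⟩ := (sigmaMk fun i => Spec (CommRingCat.of (M i))).surjective (e.inv v)
  let π : specObj K (M i) ⟶ V := MorphismProperty.Over.homMk
    (Sigma.ι (fun i => Spec (CommRingCat.of (M i))) i ≫ e.hom) ((Category.assoc _ _ _).trans (he i)) trivial
  obtain ⟨σ, hσ⟩ := exists_eq_specMap (π ≫ f)
  obtain ⟨N₁, _, _, _, _, _, -, -, ⟨j⟩⟩ := hK (M i) 1 one_pos
  let p₁ : EtCoh.sect P (specObj K N₁) := P.obj.map (specMap j).op (P.obj.map π.op p₀)
  have hp₁ : g.hom.app (op (specObj K N₁)) p₁ = C.obj.map (specMap (j.comp σ)).op c := by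
    rw [← map_specMap_comp, hσ]
    refine (NatTrans.naturality_apply g.hom (specMap j).op _).trans (congrArg (C.obj.map (specMap j).op) ?_)
    refine (NatTrans.naturality_apply g.hom π.op p₀).trans ((congrArg (C.obj.map π.op) hp₀).trans ?_)
    rw [op_comp, Functor.map_comp, ConcreteCategory.comp_apply]
  have hm := isOfFinAddOrder_sect hP (norm P p₁)
  obtain ⟨N₂, _, _, _, _, _, hcyc, hdvd, ⟨j₂⟩⟩ :=
    hK N₁ (addOrderOf (norm P p₁) * Module.finrank K N₁) (Nat.mul_pos hm.addOrderOf_pos Module.finrank_pos)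
  refine ⟨N₂, inferInstance, inferInstance, inferInstance, inferInstance, inferInstance, hcyc,
    j₂.comp (j.comp σ), P.obj.map (specMap j₂).op p₁, ?_, norm_res_eq_zero P j₂ p₁ (addOrderOf_nsmul_eq_zero _) hdvd⟩
  rw [← map_specMap_comp]
  exact (NatTrans.naturality_apply g.hom (specMap j₂).op p₁).trans (congrArg (C.obj.map (specMap j₂).op) hp₁)

theorem exists_lifts_norm_zero (hK : CycExt K) (hP : EtCoh.IsTorsion P) {N : Type u} [Field N] [Algebra K N]
    [FiniteDimensional K N] [Algebra.IsSeparable K N] {ι : Type*} (s : Finset ι)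
    (c : ι → EtCoh.sect C (specObj K N)) :
    ∃ (N' : Type u) (_ : Field N') (_ : Algebra K N') (_ : FiniteDimensional K N')
      (_ : Algebra.IsSeparable K N') (_ : IsGalois K N'),
      IsCyclic (N' ≃ₐ[K] N') ∧ ∃ (j : N →ₐ[K] N') (p : ι → EtCoh.sect P (specObj K N')),
        ∀ a ∈ s, g.hom.app (op (specObj K N')) (p a) = C.obj.map (specMap j).op (c a) ∧ norm P (p a) = 0 := by
  classical
  induction s using Finset.induction_on with
  | empty =>
    obtain ⟨N', _, _, _, _, _, hcyc, -, ⟨j⟩⟩ := hK N 1 one_pos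
    exact ⟨N', inferInstance, inferInstance, inferInstance, inferInstance, inferInstance, hcyc, j, 0,
      fun a ha => absurd ha (Finset.notMem_empty a)⟩
  | insert b s hb ih =>
    obtain ⟨N₁, _, _, _, _, _, -, j₁, p₁, hp₁⟩ := ih
    obtain ⟨N₂, _, _, _, _, _, hcyc, j₂, q, hq, hq0⟩ :=
      exists_lift_norm_zero g hK hP (C.obj.map (specMap j₁).op (c b))
    refine ⟨N₂, inferInstance, inferInstance, inferInstance, inferInstance, inferInstance, hcyc,
      j₂.comp j₁, fun a => if a = b then q else P.obj.map (specMap j₂).op (p₁ a), fun a ha => ?_⟩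
    simp only
    by_cases hab : a = b
    · subst hab
      rw [if_pos rfl, ← map_specMap_comp]
      exact ⟨hq, hq0⟩
    · obtain ⟨h1, h2⟩ := hp₁ a ((Finset.mem_insert.1 ha).resolve_left hab)
      rw [if_neg hab, ← map_specMap_comp]
      refine ⟨(NatTrans.naturality_apply g.hom (specMap j₂).op (p₁ a)).trans
        (congrArg (C.obj.map (specMap j₂).op) h1), ?_⟩
      obtain ⟨d, -, hd⟩ := norm_res P j₂ (p₁ a)
      rw [hd, h2, map_zero, nsmul_zero]

theorem invariant_of_generator {N : Type u} [Field N] [Algebra K N] [FiniteDimensional K N]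
    [Algebra.IsSeparable K N] (F : EtCoh.Ab (Spec (CommRingCat.of K))) (s : EtCoh.sect F (specObj K N))
    {σ : N ≃ₐ[K] N} (hσ : ∀ g, g ∈ Subgroup.zpowers σ) (h : F.obj.map (specMap σ.toAlgHom).op s = s)
    (τ : N →ₐ[K] N) : F.obj.map (specMap τ).op s = s := by
  let H : Subgroup (N ≃ₐ[K] N) :=
    { carrier := {g | F.obj.map (specMap g.toAlgHom).op s = s}
      one_mem' := by
        show F.obj.map (specMap (1 : N ≃ₐ[K] N).toAlgHom).op s = s
        rw [show specMap (1 : N ≃ₐ[K] N).toAlgHom = 𝟙 (specObj K N) from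
          MorphismProperty.Over.Hom.ext (Spec.map_id _)]
        exact ConcreteCategory.congr_hom (F.obj.map_id _) s
      mul_mem' := fun {a b} ha hb => by
        show F.obj.map (specMap (a * b).toAlgHom).op s = s
        rw [show (a * b).toAlgHom = a.toAlgHom.comp b.toAlgHom from rfl, ← map_specMap_comp, hb, ha]
      inv_mem' := fun {a} ha => by
        show F.obj.map (specMap a⁻¹.toAlgHom).op s = s
        conv_lhs => rw [← ha, map_specMap_comp]
        rw [show a⁻¹.toAlgHom.comp a.toAlgHom = AlgHom.id K N from AlgHom.ext a.symm_apply_apply,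
          show specMap (AlgHom.id K N) = 𝟙 (specObj K N) from MorphismProperty.Over.Hom.ext (Spec.map_id _)]
        exact ConcreteCategory.congr_hom (F.obj.map_id _) s }
  have h1 : AlgEquiv.ofBijective τ (Algebra.IsAlgebraic.algHom_bijective τ) ∈ H :=
    (Subgroup.zpowers_le.2 (show σ ∈ H from h)) (hσ _)
  have h2 : F.obj.map (specMap (AlgEquiv.ofBijective τ
      (Algebra.IsAlgebraic.algHom_bijective τ)).toAlgHom).op s = s := h1
  rwa [show (AlgEquiv.ofBijective τ (Algebra.IsAlgebraic.algHom_bijective τ)).toAlgHom = τ from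
    AlgHom.ext fun _ => rfl] at h2

/-- `H¹` of torsion sheaves is right exact. -/
theorem exists_H1_lift (hK : CycExt K) (hP : EtCoh.IsTorsion P)
    (β : EtCoh.H (Spec (CommRingCat.of K)) C 1) :
    ∃ γ : EtCoh.H (Spec (CommRingCat.of K)) P 1, γ.comp (Ext.mk₀ g) (add_zero 1) = β := by
  classical
  let S := EtCore45.injSeq C
  let T := EtCore45.injSeq P
  have hS : S.ShortExact := EtCore45.injSeq_shortExact C
  have hT : T.ShortExact := EtCore45.injSeq_shortExact P
  have : Injective S.X₂ := inferInstanceAs (Injective (Injective.under C))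
  have : Injective T.X₂ := inferInstanceAs (Injective (Injective.under P))
  have : Epi S.g := hS.epi_g
  have : Epi T.g := hT.epi_g
  have : Mono T.f := hT.mono_f
  have : Subsingleton (EtCoh.H (Spec (CommRingCat.of K)) S.X₂ 1) :=
    Ext.subsingleton_of_injective (EtCoh.const (Spec (CommRingCat.of K)) ℤ) S.X₂ 0
  obtain ⟨β₀, rfl⟩ := exists_comp_extClass hS (rfl : 0 + 1 = 1) β
  obtain ⟨φ, rfl⟩ := Ext.addEquiv₀.symm.surjective β₀
  let top := EtCore.topIsTerminal (Spec (CommRingCat.of K))
  obtain ⟨L, _, _, _, _, t₀, ht₀⟩ := exists_lift_ext S.g (EtDesc45.secZ top S.X₃ φ)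
  obtain ⟨N, _, _, _, _, _, -, -, ⟨ι⟩⟩ := hK L 1 one_pos
  let t : EtCoh.sect S.X₂ (specObj K N) := S.X₂.obj.map (specMap ι).op t₀
  have ht : S.g.hom.app (op (specObj K N)) t =
      S.X₃.obj.map (top.from (specObj K N)).op (EtDesc45.secZ top S.X₃ φ) :=
    (NatTrans.naturality_apply S.g.hom (specMap ι).op t₀).trans
      ((congrArg (S.X₃.obj.map (specMap ι).op) ht₀).trans (map_specMap_top _ ι _))
  have hc : ∀ σ : N ≃ₐ[K] N, ∃ c, S.f.hom.app (op (specObj K N)) c =
      S.X₂.obj.map (specMap σ.toAlgHom).op t - t := fun σ => by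
    refine (sect_exact hS (specObj K N)).2 _ ?_
    rw [map_sub, sub_eq_zero, NatTrans.naturality_apply S.g.hom, ht, map_specMap_top]
  choose c hc using hc
  obtain ⟨N', _, _, _, _, _, hcyc, j, p, hp⟩ := exists_lifts_norm_zero g hK hP Finset.univ c
  obtain ⟨σ', hσ'⟩ := hcyc.exists_generator
  obtain ⟨ρ, -, hρ⟩ := exists_restrict j
  obtain ⟨hgp, hnp⟩ := hp (ρ σ') (Finset.mem_univ _)
  let t' : EtCoh.sect S.X₂ (specObj K N') := S.X₂.obj.map (specMap j).op t
  have ht' : S.X₂.obj.map (specMap σ'.toAlgHom).op t' - t' =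
      S.f.hom.app (op (specObj K N')) (g.hom.app (op (specObj K N')) (p (ρ σ'))) := by
    rw [hgp, NatTrans.naturality_apply S.f.hom, hc, map_sub, map_specMap_comp _ j σ'.toAlgHom t,
      map_specMap_comp _ (ρ σ').toAlgHom j t, hρ]
  obtain ⟨w, hw⟩ := exists_sub_eq T.X₂ (T.f.hom.app (op (specObj K N')) (p (ρ σ'))) (by
    refine (norm_naturality T.f (p (ρ σ'))).trans ?_
    rw [hnp, map_zero]) hσ'
  let h : T.X₂ ⟶ S.X₂ := Injective.factorThru (g ≫ S.f) T.f
  have hh : T.f ≫ h = g ≫ S.f := Injective.comp_factorThru _ _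
  have hh0 : T.f ≫ h ≫ S.g = 0 := by rw [← Category.assoc, hh, Category.assoc, S.zero, comp_zero]
  let h₃ : T.X₃ ⟶ S.X₃ := hT.exact.desc (h ≫ S.g) hh0
  have hh₃ : T.g ≫ h₃ = h ≫ S.g := hT.exact.g_desc _ _
  let φT : T ⟶ S :=
    { τ₁ := g
      τ₂ := h
      τ₃ := h₃
      comm₁₂ := hh.symm
      comm₂₃ := hh₃.symm }
  let s : EtCoh.sect T.X₃ (specObj K N') := T.g.hom.app (op (specObj K N')) w
  have hs : T.X₃.obj.map (specMap σ'.toAlgHom).op s = s := by
    rw [← sub_eq_zero, ← NatTrans.naturality_apply T.g.hom, ← map_sub, hw]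
    exact ConcreteCategory.congr_hom (NatTrans.congr_app (congrArg (fun f => f.hom) T.zero)
      (op (specObj K N'))) (p (ρ σ'))
  obtain ⟨s₀, hs₀⟩ := (descend_galois (N := N') T.X₃).2.ge (invariant_of_generator _ s hσ' hs)
  obtain ⟨ψ, rfl⟩ := (EtDesc45.secZ top T.X₃).surjective s₀
  let d : EtCoh.sect S.X₂ (specObj K N') := h.hom.app (op (specObj K N')) w - t'
  have hd : S.X₂.obj.map (specMap σ'.toAlgHom).op d = d := by
    rw [← sub_eq_zero]
    simp only [d]
    rw [map_sub, sub_sub_sub_comm, ← NatTrans.naturality_apply h.hom, ← map_sub, hw, ht', sub_eq_zero]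
    exact ConcreteCategory.congr_hom (NatTrans.congr_app (congrArg (fun f => f.hom) hh)
      (op (specObj K N'))) (p (ρ σ'))
  obtain ⟨d₀, hd₀⟩ := (descend_galois (N := N') S.X₂).2.ge (invariant_of_generator _ d hσ' hd)
  obtain ⟨χ, rfl⟩ := (EtDesc45.secZ top S.X₂).surjective d₀
  have key : ψ ≫ h₃ = φ + χ ≫ S.g := by
    apply (EtDesc45.secZ top S.X₃).injective
    apply (descend_galois (N := N') S.X₃).1
    rw [map_add, EtDesc45.secZ_comp, EtDesc45.secZ_comp, map_add, ← NatTrans.naturality_apply h₃.hom, hs₀,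
      ← NatTrans.naturality_apply S.g.hom, hd₀]
    simp only [d, s]
    rw [map_sub, NatTrans.naturality_apply S.g.hom, ht, map_specMap_top, add_sub_cancel]
    exact ConcreteCategory.congr_hom (NatTrans.congr_app (congrArg (fun f => f.hom) hh₃)
      (op (specObj K N'))) w
  refine ⟨(Ext.mk₀ ψ).comp hT.extClass (zero_add 1), ?_⟩
  have nat := ShortComplex.ShortExact.extClass_naturality hT hS φT
  refine (Ext.comp_assoc _ _ _ (zero_add 1) (add_zero 1) (by omega)).trans ?_
  refine (congrArg (fun z => (Ext.mk₀ ψ).comp z (zero_add 1)) nat).trans ?_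
  rw [Ext.mk₀_comp_mk₀_assoc]
  show (Ext.mk₀ (ψ ≫ h₃)).comp hS.extClass (zero_add 1) = (Ext.mk₀ φ).comp hS.extClass (zero_add 1)
  rw [key, Ext.mk₀_add, Ext.add_comp, (delta_mk₀_eq_zero_iff hS _).2 ⟨χ, rfl⟩, add_zero]

/-- Torsion sheaves have no cohomology in degree at least two. -/
theorem eq_zero_of_cycExt (hK : CycExt K) :
    ∀ (n : ℕ) (F : EtCoh.Ab (Spec (CommRingCat.of K))), EtCoh.IsTorsion F →
      ∀ α : EtCoh.H (Spec (CommRingCat.of K)) F (n + 2), α = 0 := by
  intro n
  induction n using Nat.strong_induction_on with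
  | _ n ih =>
    intro F hF α
    obtain ⟨L, _, _, _, _, hp, hα⟩ := exists_killing_aux (n + 1) F α
    let π : Spec (CommRingCat.of L) ⟶ Spec (CommRingCat.of K) := Spec.map (CommRingCat.ofHom (algebraMap K L))
    have : IsIntegralHom π := IsIntegralHom.SpecMap_iff.2 (algebraMap_isIntegral_iff.2 inferInstance)
    have : PreservesFiniteLimits (EtCoh.pull π) := hp
    let P := (EtCoh.push π).obj ((EtCoh.pull π).obj F)
    let v : F ⟶ P := (EtCoh.pullPushAdj π).unit.app F
    have hv : Mono v := haveI : Surjective π := ⟨surjective_specObj⟩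
      Unr55.EtSh.mono_unit_of_surjective π F
    have hPT : EtCoh.IsTorsion P := isTorsion_push π (Cons51.isTorsion_pull π hF)
    have hb : Function.Bijective (EtLim.HofPush π ((EtCoh.pull π).obj F) (n + 2)) :=
      EtCore45.adjTransfer_bijective (EtCoh.pullPushAdj π) (EtCore.pullConst π ℤ).inv (n + 2) _
        (GalCoh84.isZero_Rpush π _)
    have h0 : α.comp (Ext.mk₀ v) (add_zero (n + 2)) = 0 := by
      apply hb.1
      rw [map_zero]
      show (EtCore.Hpull π P (n + 2) (α.comp (Ext.mk₀ v) (add_zero (n + 2)))).comp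
        (Ext.mk₀ ((EtCoh.pullPushAdj π).counit.app ((EtCoh.pull π).obj F))) (add_zero (n + 2)) = 0
      rw [Hpull_naturality]
      have hα' : EtCore.Hpull π F (n + 2) α = 0 := hα
      rw [hα', Ext.zero_comp, Ext.zero_comp]
    let S : ShortComplex (EtCoh.Ab (Spec (CommRingCat.of K))) :=
      ShortComplex.mk v (cokernel.π v) (cokernel.condition v)
    have hSS : S.ShortExact :=
      { exact := ShortComplex.exact_of_g_is_cokernel _ (cokernelIsCokernel v)
        mono_f := hv
        epi_g := inferInstanceAs (Epi (cokernel.π v)) }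
    obtain ⟨β, hβ⟩ := Ext.covariant_sequence_exact₁ (X := EtCoh.const (Spec (CommRingCat.of K)) ℤ) hSS α h0
      (rfl : (n + 1) + 1 = n + 2)
    rw [← hβ]
    rcases n with _ | n
    · have : Epi S.g := hSS.epi_g
      obtain ⟨γ, rfl⟩ := exists_H1_lift S.g hK hPT β
      rw [Ext.comp_assoc_of_second_deg_zero, hSS.comp_extClass, Ext.comp_zero]
    · have : Epi S.g := hSS.epi_g
      have hC : EtCoh.IsTorsion S.X₃ := Cons51.isTorsion_of_epi S.g hPT
      have hβ0 : β = 0 := ih n (Nat.lt_succ_self n) S.X₃ hC β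
      rw [hβ0, Ext.zero_comp]

/-- `cd ≤ 1`. -/
theorem cohDimLE_one_of_cycExt (hK : CycExt K) : EtCoh.CohDimLE (Spec (CommRingCat.of K)) 1 := by
  intro F hF q hq
  obtain ⟨n, rfl⟩ : ∃ n, q = n + 2 := ⟨q - 2, by omega⟩
  exact ⟨fun a b => (eq_zero_of_cycExt hK n F hF a).trans (eq_zero_of_cycExt hK n F hF b).symm⟩

end Groth.Agent.HL47
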