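import Groth.Agent.HL47.OneDim
import Groth.Agent.RD97.LES
import Groth.Agent.EtCore45.ExtAdjoint

/-!
# Cohomology of normal one-dimensional schemes above degree three
-/

set_option autoImplicit false
set_option backward.isDefEq.respectTransparency.types false
universe u

open CategoryTheory CategoryTheory.Limits CategoryTheory.Abelian AlgebraicGeometry Opposite IsLocalRing
open Groth.Agent Groth.Agent.GalCoh84 Groth.Agent.Cons51 Groth.Agent.PBC51.Van

namespace Groth.Agent.HL47

instance isPreimmersion_genPt {X : Scheme.{u}} [IsIntegral X] : IsPreimmersion (genPt X) :=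
  inferInstanceAs (IsPreimmersion (X.fromSpecStalk _))

/-- The hypotheses on the cohomological dimension of the points. -/
structure DimBound (X : Scheme.{u}) [IsIntegral X] : Prop where
  generic : EtCoh.CohDimLE (Spec X.functionField) 2
  closed : ∀ x : X, x ≠ genericPoint X → EtCoh.CohDimLE (Spec (X.residueField x)) 1

variable {X : Scheme.{u}} [IsIntegral X] [IsNoetherian X]

instance quasiCompact_genPt : QuasiCompact (genPt X) := quasiCompact_of_compactSpace _

instance quasiSeparated_genPt : QuasiSeparated (genPt X) := inferInstance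

theorem isClosed_of_mem_supp (hX : OneDim X) {F : EtCoh.Ab X} (hF : ∀ x ∈ EtPBC.supp F, x ≠ genericPoint X) :
    ∀ x ∈ EtPBC.supp F, IsClosed ({x} : Set X) :=
  fun x hx => hX.closed x (hF x hx)

theorem ne_genericPoint_of_isClosed (hX : OneDim X) {x : X} (hx : IsClosed ({x} : Set X))
    (hne : ∃ y : X, y ≠ genericPoint X) : x ≠ genericPoint X := by
  rintro rfl
  obtain ⟨y, hy⟩ := hne
  have h := ((genericPoint_spec X).specializes (Set.mem_univ y)).mem_closed hx (Set.mem_singleton _)
  exact hy h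

/-- Sheaves supported at closed non-generic points have no cohomology in degree at least three. -/
theorem subsingleton_H_supp (hX : OneDim X) (hd : DimBound X) (T : EtCoh.Ab X)
    (hT : ∀ x ∈ EtPBC.supp T, x ≠ genericPoint X) {p : ℕ} (hp : 3 ≤ p) :
    Subsingleton (EtCoh.H X T p) :=
  subsingleton_H_of_supp_closed T (isClosed_of_mem_supp hX hT) p fun x hx =>
    subsingleton_of_cohDimLE (k := X.residueField x) (hd.closed x (hT x hx)) _ hp

/-- Torsion sheaves supported at closed non-generic points have no cohomology in degree at least two. -/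
theorem subsingleton_H_supp_torsion (hX : OneDim X) (hd : DimBound X) (T : EtCoh.Ab X)
    (hT : ∀ x ∈ EtPBC.supp T, x ≠ genericPoint X) (hT' : EtCoh.IsTorsion T) {p : ℕ} (hp : 2 ≤ p) :
    Subsingleton (EtCoh.H X T p) :=
  subsingleton_H_of_supp_closed T (isClosed_of_mem_supp hX hT) p fun x hx =>
    hd.closed x (hT x hx) _ (Cons51.isTorsion_pull _
      (isTorsion_of_mono (kernel.ι ((EtCoh.pullPushAdj (comp1 (isClosed_of_mem_supp hX hT x hx)).ι).unit.app T)) hT'))
      p hp

/-- Geometric points over the generic point factor through it. -/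
theorem exists_factor_genPt {Ω : Type u} [Field Ω] (ξ : Spec (CommRingCat.of Ω) ⟶ X)
    (h : ξ default = genericPoint X) : ∃ v, v ≫ genPt X = ξ := by
  obtain ⟨⟨y, σ⟩, rfl⟩ := (X.SpecToEquivOfField Ω).symm.surjective ξ
  rw [Scheme.SpecToEquivOfField_symm_apply, Scheme.Hom.comp_apply, Scheme.fromSpecResidueField_apply] at h
  subst h
  exact ⟨Spec.map σ ≫ Spec.map (X.residue (genericPoint X)), by
    rw [Scheme.SpecToEquivOfField_symm_apply, Category.assoc]
    rfl⟩

/-- The unit at the generic point is bijective on generic stalks. -/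
theorem bijective_stalk_unit (F : EtCoh.Ab X) {Ω : Type u} [Field Ω] [IsSepClosed Ω]
    (ξ : Spec (CommRingCat.of Ω) ⟶ X) (h : ξ default = genericPoint X) :
    Function.Bijective ((EtCoh.stalk ξ).map ((EtCoh.pullPushAdj (genPt X)).unit.app F)) := by
  obtain ⟨v, rfl⟩ := exists_factor_genPt ξ h
  let G := (EtCoh.pull (genPt X)).obj F
  have ho : Unr55.EtSh.OpenRefined (genPt X) v := Unr55.EtSh.openRefined_of_isEmbedding _ _ fun V =>
    haveI : IsPreimmersion (pullback.fst V.hom (genPt X)) := MorphismProperty.pullback_fst _ _ (isPreimmersion_genPt (X := X))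
    (pullback.fst V.hom (genPt X)).isEmbedding.isInducing
  have hinj : Function.Injective (Unr55.EtSh.pushStalkMap (genPt X) v G) := by
    refine (injective_iff_map_eq_zero (Unr55.EtSh.pushStalkMap (genPt X) v G).hom).2 fun a ha => ?_
    obtain ⟨V, s, σ, rfl⟩ := Unr55.EtSh.exists_germ_eq (v ≫ genPt X) ((EtCoh.push (genPt X)).obj G) a
    obtain ⟨U, g, t, h1, h2⟩ := (Unr55.EtSh.germ_eq_zero_iff v G (Unr55.EtSh.ptUp (genPt X) v s) σ).1
      ((Unr55.EtSh.pushStalkMap_germ (genPt X) v G s σ).symm.trans ha)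
    have hmem : Unr55.EtSh.hom v (Unr55.EtSh.ptUp (genPt X) v s) default ∈ Unr55.EtSh.vanishing G σ :=
      Unr55.EtSh.range_le_vanishing G σ g h2
        ⟨Unr55.EtSh.hom v t default, congrArg (fun q => Unr55.EtSh.hom v q default) h1⟩
    obtain ⟨V', w, s', hs', hr⟩ := ho V s _ hmem
    exact (Unr55.EtSh.germ_eq_zero_iff (v ≫ genPt X) ((EtCoh.push (genPt X)).obj G) s σ).2
      ⟨V', w, s', hs', (Unr55.EtSh.map_eq_zero_iff_range_le G σ _).2 hr⟩
  have hθ := Unr55.EtSh.theta_bijective (genPt X) v F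
  have hcomp : Function.Bijective (⇑(Unr55.EtSh.pushStalkMap (genPt X) v G) ∘
      ⇑((EtCoh.stalk (v ≫ genPt X)).map ((EtCoh.pullPushAdj (genPt X)).unit.app F))) := hθ
  exact ⟨fun a b hab => hcomp.1 (congrArg (Unr55.EtSh.pushStalkMap (genPt X) v G) hab), fun b => by
    obtain ⟨a, ha⟩ := hcomp.2 (Unr55.EtSh.pushStalkMap (genPt X) v G b)
    exact ⟨a, hinj ha⟩⟩

/-- Kernels and cokernels of maps bijective on generic stalks are supported away from the generic point. -/
theorem supp_ne_genericPoint {F G : EtCoh.Ab X} (φ : F ⟶ G)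
    (h : ∀ (Ω : Type u) [Field Ω] [IsSepClosed Ω] (ξ : Spec (CommRingCat.of Ω) ⟶ X),
      ξ default = genericPoint X → Function.Bijective ((EtCoh.stalk ξ).map φ)) :
    (∀ x ∈ EtPBC.supp (kernel φ), x ≠ genericPoint X) ∧ ∀ x ∈ EtPBC.supp (cokernel φ), x ≠ genericPoint X := by
  refine ⟨?_, ?_⟩ <;> rintro x ⟨Ω, _, _, ξ, hξ, hne⟩ hx <;> refine hne ?_
  all_goals
    have hd : ξ default = genericPoint X := by
      have : ξ default ∈ Set.range ξ := ⟨_, rfl⟩
      rw [hξ] at this
      exact (Set.mem_singleton_iff.1 this).trans hx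
  · have := Cons51.subsingleton_stalk_kernel φ ξ (h Ω ξ hd).1
    exact AddCommGrpCat.isZero_of_subsingleton _
  · refine @AddCommGrpCat.isZero_of_subsingleton _ ⟨fun a b => ?_⟩
    have hz : ∀ a : ((EtCoh.stalk ξ).obj (cokernel φ) : AddCommGrpCat.{u + 1}), a = 0 := fun a => by
      obtain ⟨c, rfl⟩ := (AddCommGrpCat.epi_iff_surjective ((EtCoh.stalk ξ).map (cokernel.π φ))).1 inferInstance a
      obtain ⟨d, rfl⟩ := (h Ω ξ hd).2 c
      rw [← ConcreteCategory.comp_apply, ← Functor.map_comp, cokernel.condition, Functor.map_zero]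
      rfl
    rw [hz a, hz b]

theorem subsingleton_H_push (n : ℕ) (G : EtCoh.Ab (Spec X.functionField))
    (h : ∀ q, 0 < q → IsZero ((EtCoh.Rpush (genPt X) q).obj G))
    (hG : Subsingleton (EtCoh.H (Spec X.functionField) G n)) :
    Subsingleton (EtCoh.H X ((EtCoh.push (genPt X)).obj G) n) := by
  have := Unr55.EtSh.preservesFiniteLimits_pull (genPt X)
  have hb := EtCore45.adjTransfer_bijective (EtCoh.pullPushAdj (genPt X)) (EtCore.pullConst (genPt X) ℤ).inv n G h
  exact hb.1.subsingleton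

/-- One step of dimension shifting for the direct image from the generic point. -/
theorem subsingleton_H_push_step (hX : OneDim X) (hd : DimBound X) {S : ShortComplex (EtCoh.Ab (Spec X.functionField))}
    (hS : S.ShortExact) [Injective S.X₂] {p : ℕ} (hp : 3 ≤ p)
    (h : Subsingleton (EtCoh.H X ((EtCoh.push (genPt X)).obj S.X₃) p)) :
    Subsingleton (EtCoh.H X ((EtCoh.push (genPt X)).obj S.X₁) (p + 1)) := by
  let R := EtCoh.push (genPt X)
  have : PreservesLimitsOfSize.{0, 0} R := (EtCoh.pullPushAdj (genPt X)).rightAdjoint_preservesLimits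
  have hfl : PreservesFiniteLimits R := PreservesLimitsOfSize.preservesFiniteLimits _
  have : R.Additive := (EtCoh.pullPushAdj (genPt X)).right_adjoint_additive
  have : Mono S.f := hS.mono_f
  let c := cokernel.π (R.map S.f)
  let d : cokernel (R.map S.f) ⟶ R.obj S.X₃ :=
    cokernel.desc _ (R.map S.g) (by rw [← R.map_comp, S.zero, R.map_zero])
  have hex : (S.map R).Exact := hS.exact.map_of_mono_of_preservesKernel R hS.mono_f inferInstance
  have : Mono d := hex.mono_cokernelDesc
  let D := (RD97.nonempty_derivedLES R).some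
  let S₁ : ShortComplex (EtCoh.Ab X) := ShortComplex.mk ((R.rightDerived 0).map S.g) (D.δ S hS 0 1 rfl)
    (D.comp_δ S hS 0 1 rfl)
  let δ : R.obj S.X₃ ⟶ (EtCoh.Rpush (genPt X) 1).obj S.X₁ :=
    R.rightDerivedZeroIsoSelf.inv.app S.X₃ ≫ D.δ S hS 0 1 rfl
  have hδ0 : R.map S.g ≫ δ = 0 := by
    show R.map S.g ≫ R.rightDerivedZeroIsoSelf.inv.app S.X₃ ≫ D.δ S hS 0 1 rfl = 0
    rw [← Category.assoc, R.rightDerivedZeroIsoSelf.inv.naturality, Category.assoc, D.comp_δ S hS 0 1 rfl,
      comp_zero]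
  let S₂ : ShortComplex (EtCoh.Ab X) := ShortComplex.mk (R.map S.g) δ hδ0
  have hδ : S₂.Exact := by
    let i : S₁ ≅ S₂ := ShortComplex.isoMk (R.rightDerivedZeroIsoSelf.app S.X₂)
      (R.rightDerivedZeroIsoSelf.app S.X₃) (Iso.refl _)
      (R.rightDerivedZeroIsoSelf.hom.naturality S.g).symm (by
        show R.rightDerivedZeroIsoSelf.hom.app S.X₃ ≫ R.rightDerivedZeroIsoSelf.inv.app S.X₃ ≫ D.δ S hS 0 1 rfl =
          D.δ S hS 0 1 rfl ≫ 𝟙 _
        rw [Iso.hom_inv_id_app_assoc, Category.comp_id])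
    exact ShortComplex.exact_of_iso i (D.exact₃ S hS 0 1 rfl)
  let T : ShortComplex (EtCoh.Ab X) := ShortComplex.mk d (cokernel.π d) (cokernel.condition d)
  have hTS : T.ShortExact :=
    { exact := ShortComplex.exact_of_g_is_cokernel _ (cokernelIsCokernel d)
      mono_f := inferInstanceAs (Mono d)
      epi_g := inferInstanceAs (Epi (cokernel.π d)) }
  have hdδ : d ≫ δ = 0 := by
    rw [← cancel_epi c, cokernel.π_desc_assoc, comp_zero]
    exact hδ0
  let e : cokernel d ⟶ (EtCoh.Rpush (genPt X) 1).obj S.X₁ := cokernel.desc d δ hdδ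
  have : Mono e := by
    have : (ShortComplex.mk d δ hdδ).Exact := by
      let φ : S₂ ⟶ ShortComplex.mk d δ hdδ :=
        { τ₁ := c, τ₂ := 𝟙 _, τ₃ := 𝟙 _,
          comm₁₂ := by simp [S₂, c, d], comm₂₃ := by simp [S₂] }
      have : Epi φ.τ₁ := inferInstanceAs (Epi c)
      have : IsIso φ.τ₂ := inferInstanceAs (IsIso (𝟙 _))
      have : Mono φ.τ₃ := inferInstanceAs (Mono (𝟙 _))
      exact (ShortComplex.exact_iff_of_epi_of_isIso_of_mono φ).1 hδ
    exact this.mono_cokernelDesc
  have hC : Subsingleton (EtCoh.H X (cokernel d) (p - 1)) :=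
    subsingleton_H_supp_torsion hX hd _
      (fun x hx => ne_genericPoint_supp_Rpush hX S.X₁ le_rfl x (Cons51.supp_subset_of_mono e hx))
      (isTorsion_of_mono e (isTorsion_Rpush_genPt hX S.X₁ le_rfl)) (by omega)
  have hM : Subsingleton (EtCoh.H X (cokernel (R.map S.f)) p) := ⟨fun a b => by
    have hz : ∀ a : EtCoh.H X (cokernel (R.map S.f)) p, a = 0 := fun a => by
      obtain ⟨β, rfl⟩ := Ext.covariant_sequence_exact₁ _ hTS a (Subsingleton.elim _ _) (show p - 1 + 1 = p by omega)
      rw [Subsingleton.elim β 0, Ext.zero_comp]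
    rw [hz a, hz b]⟩
  let U : ShortComplex (EtCoh.Ab X) := ShortComplex.mk (R.map S.f) c (cokernel.condition _)
  have hUS : U.ShortExact :=
    { exact := ShortComplex.exact_of_g_is_cokernel _ (cokernelIsCokernel _)
      mono_f := inferInstanceAs (Mono (R.map S.f))
      epi_g := inferInstanceAs (Epi c) }
  have : PreservesFiniteLimits (EtCoh.pull (genPt X)) := Unr55.EtSh.preservesFiniteLimits_pull _
  have : Injective U.X₂ := Injective.injective_of_adjoint (EtCoh.pullPushAdj (genPt X)) S.X₂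
  have : Subsingleton (EtCoh.H X U.X₂ (p + 1)) := Ext.subsingleton_of_injective _ U.X₂ p
  have hz : ∀ a : EtCoh.H X U.X₁ (p + 1), a = 0 := fun a => by
    obtain ⟨β, rfl⟩ := exists_comp_extClass hUS (rfl : p + 1 = p + 1) a
    rw [Subsingleton.elim β 0, Ext.zero_comp]
  exact ⟨fun a b => (hz a).trans (hz b).symm⟩

/-- Multiplication by a positive integer is an epimorphism. -/
def IsDivisibleSheaf (F : EtCoh.Ab X) : Prop := ∀ n : ℕ, 0 < n → Epi (n • 𝟙 F)

/-- In degree two over a field of cohomological dimension one, divisible sheaves have no cohomology. -/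
theorem subsingleton_H_two_of_divisible {k : Type u} [Field k] (hcd : EtCoh.CohDimLE (Spec (CommRingCat.of k)) 1)
    (F : EtCoh.Ab (Spec (CommRingCat.of k))) (hF : ∀ n : ℕ, 0 < n → Epi (n • 𝟙 F)) :
    Subsingleton (EtCoh.H (Spec (CommRingCat.of k)) F 2) := by
  suffices h : ∀ x : EtCoh.H (Spec (CommRingCat.of k)) F 2, x = 0 from ⟨fun a b => (h a).trans (h b).symm⟩
  intro x
  obtain ⟨n, hn, hx⟩ := isOfFinAddOrder_iff_nsmul_eq_zero.1 (isOfFinAddOrder_H (by omega) x)
  have := hF n hn
  let S : ShortComplex (EtCoh.Ab (Spec (CommRingCat.of k))) :=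
    ShortComplex.mk (kernel.ι (n • 𝟙 F)) (n • 𝟙 F) (kernel.condition _)
  have hS : S.ShortExact :=
    { exact := S.exact_of_f_is_kernel (kernelIsKernel _)
      mono_f := inferInstanceAs (Mono (kernel.ι _))
      epi_g := inferInstanceAs (Epi (n • 𝟙 F)) }
  have hx' : x.comp (Ext.mk₀ (n • 𝟙 F)) (add_zero 2) = 0 :=
    (congrArg (fun f => x.comp f (add_zero _)) (mk₀_nsmul n (𝟙 F))).trans
      ((map_nsmul ((Ext.bilinearComp _ F F 2 0 2 (add_zero _)) x) n _).trans
        ((congrArg (n • ·) (Ext.comp_mk₀_id x)).trans hx))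
  obtain ⟨y, rfl⟩ := Ext.covariant_sequence_exact₂ _ hS x hx'
  have hK : n • 𝟙 (kernel (n • 𝟙 F)) = 0 := by
    rw [← cancel_mono (kernel.ι (n • 𝟙 F)), Preadditive.nsmul_comp, Category.id_comp, zero_comp,
      ← kernel.condition (n • 𝟙 F), Preadditive.comp_nsmul, Category.comp_id]
  have := hcd (kernel (n • 𝟙 F)) (isTorsion_of_nsmul_id hn hK) 2 (by omega)
  rw [show y = 0 from Subsingleton.elim (α := EtCoh.H _ (kernel (n • 𝟙 F)) 2) _ _, Ext.zero_comp]

theorem epi_nsmul_pull {Y : Scheme.{u}} (f : Y ⟶ X) {F : EtCoh.Ab X} {n : ℕ} (h : Epi (n • 𝟙 F)) :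
    Epi (n • 𝟙 ((EtCoh.pull f).obj F)) := by
  have : (EtCoh.pull f).Additive := (EtCoh.pullPushAdj f).left_adjoint_additive
  have : PreservesColimitsOfSize.{0, 0} (EtCoh.pull f) := (EtCoh.pullPushAdj f).leftAdjoint_preservesColimits
  have he : n • 𝟙 ((EtCoh.pull f).obj F) = (EtCoh.pull f).map (n • 𝟙 F) := by
    rw [Functor.map_nsmul, (EtCoh.pull f).map_id]
  rw [he]
  infer_instance

/-- Torsion or divisible coefficients have no second direct image from the generic point. -/
theorem isZero_Rpush_two (hX : OneDim X) (F : EtCoh.Ab X) (hF : EtCoh.IsTorsion F ∨ IsDivisibleSheaf F) :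
    IsZero ((EtCoh.Rpush (genPt X) 2).obj ((EtCoh.pull (genPt X)).obj F)) := by
  refine EtCore45.isZero_of_stalks _ fun K _ _ η => ?_
  obtain ⟨L, _, f, h1, -, h3⟩ := exists_stalk_hom hX (η default)
  obtain ⟨ψ, hψ⟩ := h3 ((EtCoh.pull (genPt X)).obj F) 2
  have : Subsingleton (EtCoh.H (Spec (CommRingCat.of L)) ((EtCoh.pull f).obj ((EtCoh.pull (genPt X)).obj F)) 2) := by
    rcases hF with hF | hF
    · exact h1 _ (Cons51.isTorsion_pull f (Cons51.isTorsion_pull (genPt X) hF)) 2 (by omega)
    · refine subsingleton_H_two_of_divisible h1 _ fun n hn => ?_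
      have hp : Epi (n • 𝟙 ((EtCoh.pull (genPt X)).obj F)) := epi_nsmul_pull (genPt X) (hF n hn)
      exact epi_nsmul_pull f hp
  have := hψ.subsingleton
  have := Cons51.subsingleton_stalk_of_eq ((EtCoh.Rpush (genPt X) 2).obj ((EtCoh.pull (genPt X)).obj F))
    (Hens2.geomPt X _ (SH X (η default))) η (geomPt_default X _)
  exact AddCommGrpCat.isZero_of_subsingleton _

/-- Direct images from the generic point have no cohomology in degree at least four. -/
theorem subsingleton_H_push_four (hX : OneDim X) (hd : DimBound X) (G : EtCoh.Ab (Spec X.functionField))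
    (h2 : IsZero ((EtCoh.Rpush (genPt X) 2).obj G)) {r : ℕ} (hr : 4 ≤ r) :
    Subsingleton (EtCoh.H X ((EtCoh.push (genPt X)).obj G) r) := by
  obtain ⟨p, rfl⟩ : ∃ p, r = p + 1 := ⟨r - 1, by omega⟩
  let S := EtCore45.injSeq G
  have hS : S.ShortExact := EtCore45.injSeq_shortExact G
  have : Injective S.X₂ := inferInstanceAs (Injective (Injective.under G))
  have hzero : ∀ q, 2 ≤ q → IsZero ((EtCoh.Rpush (genPt X) q).obj S.X₁) := fun q hq => by
    obtain rfl | hq' := eq_or_lt_of_le hq
    · exact h2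
    · exact isZero_Rpush_genPt hX G hq'
  have hQ : ∀ q, 0 < q → IsZero ((EtCoh.Rpush (genPt X) q).obj S.X₃) := fun q hq => by
    obtain ⟨Δ⟩ := RD97.nonempty_derivedLES (EtCoh.push (genPt X))
    obtain ⟨q, rfl⟩ := Nat.exists_eq_add_one.2 hq
    exact (Δ.exact₃ S hS (q + 1) (q + 2) rfl).isZero_X₂
      (((EtCoh.push (genPt X)).isZero_rightDerived_obj_injective_succ q S.X₂).eq_of_src _ _)
      ((hzero (q + 2) (by omega)).eq_of_tgt _ _)
  refine subsingleton_H_push_step hX hd (S := S) hS (p := p) (by omega) (subsingleton_H_push p S.X₃ hQ ?_)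
  have := subsingleton_of_cohDimLE (k := X.functionField) hd.generic G (show 2 + 2 ≤ p + 1 by omega)
  exact ⟨fun a b => by
    have hz : ∀ a : EtCoh.H (Spec X.functionField) S.X₃ p, a = 0 := fun a => by
      obtain ⟨β, rfl⟩ := Ext.covariant_sequence_exact₃ _ hS a (rfl : p + 1 = p + 1)
        (Subsingleton.elim (α := EtCoh.H (Spec X.functionField) G (p + 1)) _ _)
      obtain ⟨p, rfl⟩ := Nat.exists_eq_add_one.2 (show 0 < p by omega)
      have : Subsingleton (EtCoh.H (Spec X.functionField) S.X₂ (p + 1)) := Ext.subsingleton_of_injective _ S.X₂ p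
      rw [show β = 0 from Subsingleton.elim (α := EtCoh.H (Spec X.functionField) S.X₂ (p + 1)) _ _, Ext.zero_comp]
    rw [hz a, hz b]⟩

/-- Torsion or divisible sheaves have no cohomology in degree at least four. -/
theorem subsingleton_H_four (hX : OneDim X) (hd : DimBound X) (F : EtCoh.Ab X)
    (hF : EtCoh.IsTorsion F ∨ IsDivisibleSheaf F) {r : ℕ} (hr : 4 ≤ r) : Subsingleton (EtCoh.H X F r) := by
  let P := (EtCoh.push (genPt X)).obj ((EtCoh.pull (genPt X)).obj F)
  let φ : F ⟶ P := (EtCoh.pullPushAdj (genPt X)).unit.app F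
  obtain ⟨hK, hC⟩ := supp_ne_genericPoint φ fun Ω _ _ ξ h => bijective_stalk_unit F ξ h
  let S₁ : ShortComplex (EtCoh.Ab X) := ShortComplex.mk (kernel.ι φ) (Abelian.factorThruImage φ) (by
    rw [← cancel_mono (Abelian.image.ι φ), Category.assoc, Abelian.image.fac, kernel.condition, zero_comp])
  have hS₁ : S₁.ShortExact :=
    { exact := S₁.exact_of_f_is_kernel (isKernelOfComp (Abelian.image.ι φ) φ (kernelIsKernel φ) _
        (Abelian.image.fac φ)) }
  let S₂ : ShortComplex (EtCoh.Ab X) := ShortComplex.mk (Abelian.image.ι φ) (cokernel.π φ) (kernel.condition _)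
  have hS₂ : S₂.ShortExact := { exact := S₂.exact_of_f_is_kernel (kernelIsKernel _) }
  have hP : Subsingleton (EtCoh.H X P r) :=
    subsingleton_H_push_four hX hd _ (isZero_Rpush_two hX F hF) hr
  have hK' : Subsingleton (EtCoh.H X (kernel φ) r) := subsingleton_H_supp hX hd _ hK (by omega)
  have hC' : Subsingleton (EtCoh.H X (cokernel φ) (r - 1)) := subsingleton_H_supp hX hd _ hC (by omega)
  suffices h : ∀ x : EtCoh.H X F r, x = 0 from ⟨fun a b => (h a).trans (h b).symm⟩
  intro x
  have he : x.comp (Ext.mk₀ (Abelian.factorThruImage φ)) (add_zero _) = 0 := by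
    obtain ⟨c, hc⟩ := Ext.covariant_sequence_exact₁ _ hS₂
      (x.comp (Ext.mk₀ (Abelian.factorThruImage φ)) (add_zero _)) (Subsingleton.elim (α := EtCoh.H X P r) _ _)
      (show r - 1 + 1 = r by omega)
    rw [← hc, show c = 0 from Subsingleton.elim (α := EtCoh.H X (cokernel φ) (r - 1)) _ _, Ext.zero_comp]
  obtain ⟨y, rfl⟩ := Ext.covariant_sequence_exact₂ _ hS₁ x he
  rw [show y = 0 from Subsingleton.elim (α := EtCoh.H X (kernel φ) r) _ _, Ext.zero_comp]

end Groth.Agent.HL47
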