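import Groth.Prelude.Def_EGA4b
import Groth.Agent.HL47.Vanish
import Groth.Agent.EGA4Alg4.IntegralDim
import Groth.Agent.Cons51.Compact
import Groth.Agent.Unr55.Et.Kummer
import Mathlib.RingTheory.DedekindDomain.IntegralClosure

/-!
# The punctured spectrum of a two-dimensional normal ring
-/

set_option autoImplicit false
set_option backward.isDefEq.respectTransparency.types false
universe u

open CategoryTheory CategoryTheory.Limits AlgebraicGeometry IsLocalRing
open Groth.Agent

namespace Groth.Agent.HL47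

theorem cohDimLE_of_iso {X Y : Scheme.{u}} (e : Y ⟶ X) [IsIso e] {d : ℕ} (h : EtCoh.CohDimLE Y d) :
    EtCoh.CohDimLE X d := fun F hF q hq => by
  have := h ((EtCoh.pull e).obj F) (Cons51.isTorsion_pull e hF) q hq
  exact (injective_Hpull_of_iso e F q).subsingleton

variable (B : Type u) [CommRing B]

/-- A localisation at a nonzero non-maximal prime of a two-dimensional normal Noetherian domain is a DVR. -/
theorem isDiscreteValuationRing_of_prime [IsDomain B] [IsNoetherianRing B] [IsIntegrallyClosed B]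
    (hdim : ringKrullDim B ≤ 2) (p : Ideal B) [p.IsPrime] (h0 : p ≠ ⊥) (hmax : ¬ p.IsMaximal) :
    IsDiscreteValuationRing (Localization.AtPrime p) := by
  obtain ⟨m, hm, hpm⟩ := Ideal.exists_le_maximal p (Ideal.IsPrime.ne_top inferInstance)
  have hlt : p < m := lt_of_le_of_ne hpm fun h => hmax (h ▸ hm)
  have hq : ∀ q : Ideal B, q.IsPrime → q ≤ p → q ≠ ⊥ → q = p := fun q hq' hqp hq0 => by
    by_contra hne
    let a₀ : PrimeSpectrum B := ⟨⊥, Ideal.isPrime_bot⟩
    let a₁ : PrimeSpectrum B := ⟨q, hq'⟩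
    let a₂ : PrimeSpectrum B := ⟨p, inferInstance⟩
    let a₃ : PrimeSpectrum B := ⟨m, hm.isPrime⟩
    have h01 : a₀ < a₁ := show (⊥ : Ideal B) < q from bot_lt_iff_ne_bot.2 hq0
    have h12 : a₁ < a₂ := show q < p from lt_of_le_of_ne hqp hne
    have h23 : a₂ < a₃ := hlt
    let c : LTSeries (PrimeSpectrum B) :=
      (((RelSeries.singleton _ a₀).snoc a₁ h01).snoc a₂ (by simpa using h12)).snoc a₃ (by simpa using h23)
    have h3 : (3 : WithBot ℕ∞) ≤ ringKrullDim B := Order.LTSeries.length_le_krullDim c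
    exact absurd (h3.trans hdim) (by decide)
  have hnf : maximalIdeal (Localization.AtPrime p) ≠ ⊥ := fun h => h0 <| by
    rw [← IsLocalization.AtPrime.under_maximalIdeal (Localization.AtPrime p) p, h]
    exact (Ideal.comap_bot_of_injective _ (IsLocalization.injective (Localization.AtPrime p)
      p.primeCompl_le_nonZeroDivisors))
  have : Ring.DimensionLEOne (Localization.AtPrime p) := ⟨fun {Q} hQ hQ' => by
    have hle : Q ≤ maximalIdeal (Localization.AtPrime p) := le_maximalIdeal hQ'.ne_top
    have : Q = maximalIdeal (Localization.AtPrime p) := by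
      rw [← IsLocalization.map_under p.primeCompl (Localization.AtPrime p) Q,
        ← IsLocalization.map_under p.primeCompl (Localization.AtPrime p) (maximalIdeal _),
        IsLocalization.AtPrime.under_maximalIdeal (Localization.AtPrime p) p,
        hq (Q.under B) inferInstance
          ((Ideal.comap_mono hle).trans_eq (IsLocalization.AtPrime.under_maximalIdeal (Localization.AtPrime p) p))
          (fun h => hQ (by rw [← IsLocalization.map_under p.primeCompl (Localization.AtPrime p) Q, h, Ideal.map_bot]))]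
    rw [this]
    exact maximalIdeal.isMaximal _⟩
  have : IsIntegrallyClosed (Localization.AtPrime p) :=
    isIntegrallyClosed_of_isLocalization _ p.primeCompl p.primeCompl_le_nonZeroDivisors
  have : IsDedekindDomain (Localization.AtPrime p) :=
    { toIsDomain := inferInstance, toIsDedekindRing := { } }
  exact ((IsDiscreteValuationRing.TFAE (Localization.AtPrime p)
    fun h => hnf (IsLocalRing.isField_iff_maximalIdeal_eq.1 h)).out 2 0).1 this

/-- An open set of non-closed points in the spectrum of a two-dimensional normal domain. -/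
theorem exists_setup {k : Type u} [Field k] [CharZero k] [IsDomain B] [IsNoetherianRing B] [IsIntegrallyClosed B]
    (hdim : ringKrullDim B ≤ 2) (φ : k →+* B) (K : Type u) [Field K] [Algebra B K] [IsFractionRing B K]
    (U : (Spec (CommRingCat.of B)).Opens)
    (hU : ∀ x : ↥(Spec (CommRingCat.of B)), x ∈ U → ¬ IsClosed ({x} : Set ↥(Spec (CommRingCat.of B))))
    (hne : Nonempty ↥(↑U : Scheme.{u}))
    (hcdK : EtCoh.CohDimLE (Spec (CommRingCat.of K)) 2)
    (hcdv : ∀ x : ↥(↑U : Scheme.{u}), IsClosed ({x} : Set ↥(↑U : Scheme.{u})) →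
      EtCoh.CohDimLE (Spec ((↑U : Scheme.{u}).residueField x)) 1) :
    ∃ (_ : IsIntegral (↑U : Scheme.{u})) (_ : AlgebraicGeometry.IsNoetherian (↑U : Scheme.{u})),
      OneDim (↑U : Scheme.{u}) ∧ DimBound (↑U : Scheme.{u}) := by
  let S : Scheme.{u} := Spec (CommRingCat.of B)
  have : IsDomain (CommRingCat.of B) := inferInstanceAs (IsDomain B)
  have : IsIntegral (↑U : Scheme.{u}) := isIntegral_of_isOpenImmersion U.ι
  have hgen : U.ι (genericPoint (↑U : Scheme.{u})) = genericPoint S := genericPoint_eq_of_isOpenImmersion U.ι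
  have hne0 : ∀ x : ↥(↑U : Scheme.{u}), x ≠ genericPoint (↑U : Scheme.{u}) → (U.ι x).asIdeal ≠ ⊥ :=
    fun x hx h => hx (U.ι.isOpenEmbedding.injective (by
      rw [hgen, genericPoint_eq_bot_of_affine]
      exact PrimeSpectrum.ext h))
  have hnmax : ∀ x : ↥(↑U : Scheme.{u}), ¬ (U.ι x).asIdeal.IsMaximal := fun x h =>
    hU (U.ι x) x.2 ((PrimeSpectrum.isClosed_singleton_iff_isMaximal _).2 h)
  have hclosed : ∀ x : ↥(↑U : Scheme.{u}), x ≠ genericPoint (↑U : Scheme.{u}) →
      IsClosed ({x} : Set ↥(↑U : Scheme.{u})) := fun x hx => by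
    rw [← closure_eq_iff_isClosed]
    refine Set.Subset.antisymm (fun y hy => Set.mem_singleton_iff.2 ?_) subset_closure
    have hsp : U.ι x ⤳ U.ι y := (specializes_iff_mem_closure.2 hy).map U.ι.continuous
    have hle : (U.ι x).asIdeal ≤ (U.ι y).asIdeal :=
      (PrimeSpectrum.le_iff_specializes (U.ι x) (U.ι y)).2 hsp
    refine U.ι.isOpenEmbedding.injective (PrimeSpectrum.ext ?_)
    by_contra hne'
    obtain ⟨m, hm, hym⟩ := Ideal.exists_le_maximal _ (U.ι y).isPrime.ne_top
    have hlt2 : (U.ι y).asIdeal < m := lt_of_le_of_ne hym fun h => hnmax y (h ▸ hm)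
    have hlt1 : (U.ι x).asIdeal < (U.ι y).asIdeal := lt_of_le_of_ne hle (Ne.symm hne')
    let a₀ : PrimeSpectrum B := ⟨⊥, Ideal.isPrime_bot⟩
    let a₃ : PrimeSpectrum B := ⟨m, hm.isPrime⟩
    have h01 : a₀ < U.ι x := show (⊥ : Ideal B) < _ from bot_lt_iff_ne_bot.2 (hne0 x hx)
    let c : LTSeries (PrimeSpectrum B) :=
      (((RelSeries.singleton _ a₀).snoc (U.ι x) h01).snoc (U.ι y)
        (by rw [RelSeries.last_snoc]; exact hlt1)).snoc a₃ (by rw [RelSeries.last_snoc]; exact hlt2)
    exact absurd ((Order.LTSeries.length_le_krullDim c).trans hdim)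
      (show ¬ (3 : WithBot ℕ∞) ≤ 2 by decide)
  have hN : AlgebraicGeometry.IsNoetherian (↑U : Scheme.{u}) :=
    { toCompactSpace := isCompact_iff_compactSpace.1
        (TopologicalSpace.NoetherianSpace.isCompact (α := PrimeSpectrum B) U.carrier) }
  refine ⟨inferInstance, hN, ⟨hclosed, fun x hx => ?_, fun x => ?_⟩, ⟨?_, fun x hx => hcdv x (hclosed x hx)⟩⟩
  · have := isDiscreteValuationRing_of_prime B hdim (U.ι x).asIdeal (hne0 x hx) (hnmax x)
    let e : Localization.AtPrime (U.ι x).asIdeal ≃+* (↑U : Scheme.{u}).presheaf.stalk x :=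
      RingEquiv.trans (S := (Spec (CommRingCat.of B)).presheaf.stalk (U.ι x))
        (StructureSheaf.stalkIso B (U.ι x)).toRingEquiv (U.stalkIso x).symm.commRingCatIsoToRingEquiv
    have : IsDomain ((↑U : Scheme.{u}).presheaf.stalk x) := inferInstance
    exact IsDiscreteValuationRing.RingEquivClass.isDiscreteValuationRing e
  · exact charZero_of_injective_ringHom (f := (((↑U : Scheme.{u}).residue x).hom.comp
      ((↑U : Scheme.{u}).presheaf.germ ⊤ x trivial).hom).comp
        ((U.ι.appTop).hom.comp ((Scheme.ΓSpecIso (CommRingCat.of B)).inv.hom.comp φ))) (RingHom.injective _)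
  · let : Algebra B S.functionField :=
      AlgebraicGeometry.instAlgebraCarrierFunctionFieldSpec (CommRingCat.of B)
    have : IsFractionRing B S.functionField := functionField_isFractionRing_of_affine (CommRingCat.of B)
    let e₁ : S.functionField ≅ (↑U : Scheme.{u}).functionField :=
      (S.presheaf.stalkCongr (Inseparable.of_eq hgen.symm)) ≪≫ (U.stalkIso _).symm
    let e₂ : CommRingCat.of K ≅ S.functionField :=
      (IsLocalization.algEquiv (nonZeroDivisors B) K S.functionField).toRingEquiv.toCommRingCatIso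
    exact cohDimLE_of_iso (Scheme.Spec.mapIso (e₂ ≪≫ e₁).op).inv hcdK

end Groth.Agent.HL47

namespace Groth.Agent.HL47

/-- Cohomology in degree at least four of torsion or divisible sheaves. -/
theorem subsingleton_H_punctured
    (k : Type u) [Field k] [CharZero k]
    (R₀ : Type u) [CommRing R₀] [IsDomain R₀] [Algebra k R₀]
    [IsIntegrallyClosed R₀] (hexc : EGA4.IsExcellent R₀) (hdim : ringKrullDim R₀ = 2)
    (K : Type u) [Field K] [Algebra R₀ K] [Algebra (FractionRing R₀) K]
    [IsScalarTower R₀ (FractionRing R₀) K] [FiniteDimensional (FractionRing R₀) K]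
    (U : (Spec (CommRingCat.of ↥(integralClosure R₀ K))).Opens)
    (hU : ∀ x : ↥(Spec (CommRingCat.of ↥(integralClosure R₀ K))), x ∈ U →
      ¬ IsClosed ({x} : Set ↥(Spec (CommRingCat.of ↥(integralClosure R₀ K)))))
    (hne : Nonempty ↥(↑U : Scheme.{u}))
    (hcdK : EtCoh.CohDimLE (Spec (CommRingCat.of K)) 2)
    (hcdv : ∀ x : ↥(↑U : Scheme.{u}), IsClosed ({x} : Set ↥(↑U : Scheme.{u})) →
      EtCoh.CohDimLE (Spec ((↑U : Scheme.{u}).residueField x)) 1)
    (F : EtCoh.Ab (↑U : Scheme.{u}))
    (hF : EtPBC.IsConstructible F ∨ F = EtCoh.Gm (↑U : Scheme.{u})) {r : ℕ} (hr : 4 ≤ r) :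
    Subsingleton (EtCoh.H (↑U : Scheme.{u}) F r) := by
  have := hexc.1
  have : CharZero R₀ := charZero_of_injective_algebraMap (algebraMap k R₀).injective
  have : CharZero (FractionRing R₀) :=
    charZero_of_injective_algebraMap (IsFractionRing.injective R₀ (FractionRing R₀))
  let L := FractionRing R₀
  have : IsNoetherianRing ↥(integralClosure R₀ K) :=
    IsIntegralClosure.isNoetherianRing R₀ L K ↥(integralClosure R₀ K)
  have : IsFractionRing ↥(integralClosure R₀ K) K := integralClosure.isFractionRing_of_finite_extension L K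
  have : IsIntegrallyClosed ↥(integralClosure R₀ K) := integralClosure.isIntegrallyClosedOfFiniteExtension L
  have hd : ringKrullDim ↥(integralClosure R₀ K) ≤ 2 :=
    (EGA4Alg4.ringKrullDim_le_of_integral (A := R₀) (B := ↥(integralClosure R₀ K))).trans hdim.le
  let φ : k →+* ↥(integralClosure R₀ K) := (algebraMap R₀ ↥(integralClosure R₀ K)).comp (algebraMap k R₀)
  obtain ⟨_, _, hX, hD⟩ := exists_setup ↥(integralClosure R₀ K) hd φ K U hU hne hcdK hcdv
  refine subsingleton_H_four hX hD F ?_ hr
  rcases hF with hF | rfl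
  · obtain ⟨N, hN, hk⟩ := Cons51.exists_killedBy hF
    exact Or.inl fun V s x => ⟨V, 𝟙 V, ⟨x, rfl⟩, isOfFinAddOrder_iff_nsmul_eq_zero.2 ⟨N, hN, by
      rw [← map_nsmul, hk V s, map_zero]⟩⟩
  · refine Or.inr fun n hn => Unr55.EtSh.epi_powMap _ n ?_
    rw [← map_natCast ((U.ι.appTop).hom.comp
      ((Scheme.ΓSpecIso (CommRingCat.of ↥(integralClosure R₀ K))).inv.hom.comp φ))]
    exact (Nat.cast_ne_zero.2 hn.ne').isUnit.map _

end Groth.Agent.HL47
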