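import Groth.Agent.GalCoh84.Cohom
import Mathlib.CategoryTheory.Abelian.Injective.Basic
import Mathlib.Algebra.Category.Grp.Limits
import Mathlib.GroupTheory.SpecificGroups.Cyclic
import Mathlib.RingTheory.Finiteness.Finsupp

/-!
# Sections of injective sheaves over a cyclic extension: norm zero implies difference
-/

set_option autoImplicit false
set_option backward.isDefEq.respectTransparency.types false
universe u

open CategoryTheory CategoryTheory.Limits AlgebraicGeometry Opposite
open Groth.Agent Groth.Agent.GalCoh84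

namespace Groth.Agent.HL47

/-- Sections over an empty object vanish. -/
theorem sect_eq_zero_of_isEmpty {X : Scheme.{u}} (F : EtCoh.Ab X) (U : X.Etale) [IsEmpty U.left]
    (s : EtCoh.sect F U) : s = 0 :=
  Unr55.EtSh.sect_eq_zero_of_local F _ fun x => isEmptyElim x

variable {K : Type u} [Field K] {N : Type u} [Field N] [Algebra K N] [FiniteDimensional K N]
  [Algebra.IsSeparable K N]

/-- The automorphisms act freely on points with values in a nonempty scheme. -/
theorem eq_one_of_comp_specMap {U : (Spec (CommRingCat.of K)).Etale} (hU : Nonempty U.left)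
    (f : U ⟶ specObj K N) (g : N ≃ₐ[K] N) (h : f ≫ specMap g.toAlgHom = f) : g = 1 := by
  obtain ⟨x⟩ := hU
  let κ := U.left.residueField x
  let a : Spec κ ⟶ Spec (CommRingCat.of N) := U.left.fromSpecResidueField x ≫ f.left
  obtain ⟨α, hα⟩ := Spec.map_surjective a
  have h1 : a ≫ Spec.map (CommRingCat.ofHom g.toAlgHom.toRingHom) = a := by
    show (U.left.fromSpecResidueField x ≫ f.left) ≫ _ = _
    rw [Category.assoc]
    exact congrArg (U.left.fromSpecResidueField x ≫ ·) (congrArg (fun q : U ⟶ specObj K N => q.left) h)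
  rw [← hα, ← Spec.map_comp] at h1
  have h2 := Spec.map_injective h1
  ext y
  exact α.hom.injective (congrArg (fun q : CommRingCat.of N ⟶ κ => q.hom y) h2)

variable (N) in
/-- The free presheaf on the points with values in `Spec N`. -/
noncomputable def freePre :
    (Spec (CommRingCat.of K)).Etaleᵒᵖ ⥤ AddCommGrpCat.{u + 1} where
  obj U := AddCommGrpCat.of (ULift.{u + 1} (U.unop ⟶ specObj K N) →₀ ℤ)
  map a := AddCommGrpCat.ofHom (Finsupp.mapDomain.addMonoidHom fun f => ULift.up (a.unop ≫ f.down))
  map_id U := by
    refine ConcreteCategory.hom_ext _ _ fun x => ?_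
    show Finsupp.mapDomain _ x = x
    conv_rhs => rw [← Finsupp.mapDomain_id (v := x)]
    refine congrArg (fun k => Finsupp.mapDomain k x) ?_
    funext f
    exact ULift.ext _ _ (Category.id_comp f.down)
  map_comp a b := by
    refine ConcreteCategory.hom_ext _ _ fun x => ?_
    show Finsupp.mapDomain _ x = Finsupp.mapDomain _ (Finsupp.mapDomain _ x)
    rw [← Finsupp.mapDomain_comp]
    refine congrArg (fun k => Finsupp.mapDomain k x) ?_
    funext f
    exact ULift.ext _ _ (Category.assoc _ _ _)

/-- The translation of the free presheaf by an automorphism. -/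
noncomputable def freeAct (g : N ≃ₐ[K] N) : freePre (K := K) N ⟶ freePre N where
  app U := AddCommGrpCat.ofHom (Finsupp.mapDomain.addMonoidHom fun f => ULift.up (f.down ≫ specMap g.toAlgHom))
  naturality U V a := by
    refine ConcreteCategory.hom_ext _ _ fun x => ?_
    show Finsupp.mapDomain _ (Finsupp.mapDomain _ x) = Finsupp.mapDomain _ (Finsupp.mapDomain _ x)
    rw [← Finsupp.mapDomain_comp, ← Finsupp.mapDomain_comp]
    refine congrArg (fun k => Finsupp.mapDomain k x) ?_
    funext f
    exact ULift.ext _ _ (Category.assoc _ _ _)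

/-- The map of the free presheaf given by a section, on one object. -/
noncomputable def evalHom {F : EtCoh.Ab (Spec (CommRingCat.of K))} (z : EtCoh.sect F (specObj K N))
    (U : (Spec (CommRingCat.of K)).Etale) :
    (ULift.{u + 1} (U ⟶ specObj K N) →₀ ℤ) →+ EtCoh.sect F U :=
  Finsupp.liftAddHom fun f => zmultiplesHom (EtCoh.sect F U) (F.obj.map f.down.op z)

theorem evalHom_single {F : EtCoh.Ab (Spec (CommRingCat.of K))} (z : EtCoh.sect F (specObj K N))
    (U : (Spec (CommRingCat.of K)).Etale) (f : ULift.{u + 1} (U ⟶ specObj K N)) (n : ℤ) :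
    evalHom z U (Finsupp.single f n) = n • F.obj.map f.down.op z :=
  (Finsupp.liftAddHom_apply_single _ f n).trans (zmultiplesHom_apply _ _ _)

theorem evalHom_mapDomain {F : EtCoh.Ab (Spec (CommRingCat.of K))} (z : EtCoh.sect F (specObj K N))
    {U V : (Spec (CommRingCat.of K)).Etale} (a : V ⟶ U) (x : ULift.{u + 1} (U ⟶ specObj K N) →₀ ℤ) :
    evalHom z V (Finsupp.mapDomain (fun f => ULift.up (a ≫ f.down)) x) = F.obj.map a.op (evalHom z U x) := by
  induction x using Finsupp.induction_linear with
  | zero => rw [Finsupp.mapDomain_zero, map_zero, map_zero, map_zero]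
  | add x y hx hy => rw [Finsupp.mapDomain_add, map_add, map_add, map_add, hx, hy]
  | single f n =>
    rw [Finsupp.mapDomain_single, evalHom_single, evalHom_single, map_zsmul, op_comp, F.obj.map_comp]
    rfl

/-- The map of the free presheaf given by a section. -/
noncomputable def freeEval {F : EtCoh.Ab (Spec (CommRingCat.of K))} (z : EtCoh.sect F (specObj K N)) :
    freePre (K := K) N ⟶ F.obj where
  app U := AddCommGrpCat.ofHom (evalHom z U.unop)
  naturality U V a := by
    refine ConcreteCategory.hom_ext _ _ fun x => ?_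
    exact evalHom_mapDomain z a.unop x

/-- A section killed by the norm kills the invariants of a generator. -/
theorem freeEval_eq_zero {F : EtCoh.Ab (Spec (CommRingCat.of K))} (z : EtCoh.sect F (specObj K N))
    (hz : ∑ g : N ≃ₐ[K] N, F.obj.map (specMap g.toAlgHom).op z = 0) {σ : N ≃ₐ[K] N}
    (hσ : ∀ g, g ∈ Subgroup.zpowers σ) (U : (Spec (CommRingCat.of K)).Etale)
    (x : ULift.{u + 1} (U ⟶ specObj K N) →₀ ℤ)
    (hx : Finsupp.mapDomain (fun f => ULift.up (f.down ≫ specMap σ.toAlgHom)) x = x) :
    evalHom z U x = 0 := by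
  classical
  rcases isEmpty_or_nonempty U.left with hU | hU
  · exact sect_eq_zero_of_isEmpty F U _
  let act : (N ≃ₐ[K] N) → ULift.{u + 1} (U ⟶ specObj K N) → ULift.{u + 1} (U ⟶ specObj K N) :=
    fun g f => ULift.up (f.down ≫ specMap g.toAlgHom)
  have hcomp : ∀ g h f, act g (act h f) = act (h * g) f := fun g h f => ULift.ext _ _ (by
    show (f.down ≫ specMap h.toAlgHom) ≫ specMap g.toAlgHom = f.down ≫ specMap (h * g).toAlgHom
    rw [Category.assoc, specMap_comp]
    rfl)
  have hact1 : ∀ f, act 1 f = f := fun f => ULift.ext _ _ (by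
    show f.down ≫ specMap (1 : N ≃ₐ[K] N).toAlgHom = f.down
    have : specMap (1 : N ≃ₐ[K] N).toAlgHom = 𝟙 (specObj K N) :=
      MorphismProperty.Over.Hom.ext (Spec.map_id _)
    rw [this, Category.comp_id])
  have hinj : ∀ g, Function.Injective (act g) := fun g =>
    Function.LeftInverse.injective (g := act g⁻¹) fun f => by rw [hcomp, mul_inv_cancel, hact1]
  let ev := evalHom z U
  suffices ∀ (n : ℕ) (x : ULift.{u + 1} (U ⟶ specObj K N) →₀ ℤ), x.support.card ≤ n →
      (∀ g f, x (act g f) = x f) → ev x = 0 by
    refine this _ x le_rfl ?_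
    let H : Subgroup (N ≃ₐ[K] N) :=
      { carrier := {g | ∀ f, x (act g f) = x f}
        one_mem' := fun f => by rw [hact1]
        mul_mem' := fun {a b} ha hb f => by rw [← hcomp, hb, ha]
        inv_mem' := fun {a} ha f => by
          have := ha (act a⁻¹ f)
          rwa [hcomp, inv_mul_cancel, hact1, eq_comm] at this }
    have hσH : σ ∈ H := fun f => by
      conv_lhs => rw [← hx]
      exact Finsupp.mapDomain_apply (hinj σ) x f
    intro g
    exact Subgroup.zpowers_le.2 hσH (hσ g)
  intro n
  induction n with
  | zero =>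
    intro x hn _
    rw [Finsupp.support_eq_empty.1 (Finset.card_eq_zero.1 (Nat.le_zero.1 hn)), map_zero]
  | succ n ih =>
    intro x hn hinv
    by_cases hs : x.support.card ≤ n
    · exact ih x hs hinv
    obtain ⟨f, hf⟩ := Finset.card_pos.1 (show 0 < x.support.card by omega)
    let o : ULift.{u + 1} (U ⟶ specObj K N) →₀ ℤ := ∑ g : N ≃ₐ[K] N, Finsupp.single (act g f) (x f)
    have ho : ev o = 0 := by
      simp only [o, map_sum, ev, evalHom_single]
      rw [← Finset.smul_sum]
      refine (congrArg (x f • ·) (Eq.trans ?_ (congrArg (F.obj.map f.down.op) hz))).trans ?_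
      · rw [map_sum]
        exact Finset.sum_congr rfl fun g _ =>
          ConcreteCategory.congr_hom (F.obj.map_comp (specMap g.toAlgHom).op f.down.op) z
      · rw [map_zero, smul_zero]
    have hfree : ∀ g h, act g f = act h f → g = h := fun g h e => by
      have e1 : act (g * h⁻¹) f = f := by rw [← hcomp, e, hcomp, mul_inv_cancel, hact1]
      exact mul_inv_eq_one.1 (eq_one_of_comp_specMap hU f.down _ (congrArg ULift.down e1))
    have hov : ∀ g, o (act g f) = x f := fun g => by
      simp only [o, Finsupp.finsetSum_apply, Finsupp.single_apply]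
      rw [Finset.sum_eq_single g (fun b _ hb => if_neg fun e => hb (hfree _ _ e)) (by simp)]
      simp
    have hov' : ∀ f', (∀ g, f' ≠ act g f) → o f' = 0 := fun f' hf' => by
      simp only [o, Finsupp.finsetSum_apply, Finsupp.single_apply]
      exact Finset.sum_eq_zero fun g _ => if_neg (hf' g).symm
    have hoinv : ∀ g f', o (act g f') = o f' := fun g f' => by
      by_cases he : ∃ h, f' = act h f
      · obtain ⟨h, rfl⟩ := he
        rw [hcomp, hov, hov]
      · rw [hov' f' fun h e => he ⟨h, e⟩, hov']
        intro h e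
        exact he ⟨h * g⁻¹, hinj g (by rw [e, hcomp, inv_mul_cancel_right])⟩
    have key := ih (x - o) ?_ fun g f' => by
      rw [Finsupp.sub_apply, Finsupp.sub_apply, hinv, hoinv]
    · rw [map_sub, ho, sub_zero] at key
      exact key
    · refine Nat.le_of_lt_succ (lt_of_lt_of_le (Finset.card_lt_card ?_) hn)
      refine Finset.ssubset_iff_of_subset ?_ |>.2 ⟨f, hf, ?_⟩
      · intro f' hf'
        rw [Finsupp.mem_support_iff, Finsupp.sub_apply] at hf'
        rw [Finsupp.mem_support_iff]
        intro h0
        by_cases he : ∃ h, f' = act h f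
        · obtain ⟨h, rfl⟩ := he
          exact hf' (by rw [h0, hov, ← hinv h f, h0, sub_zero])
        · exact hf' (by rw [h0, hov' f' fun h e => he ⟨h, e⟩, sub_zero])
      · have h1 := hov 1
        rw [hact1] at h1
        rw [Finsupp.mem_support_iff, Finsupp.sub_apply, h1, sub_self]
        simp

/-- Over a cyclic extension a section of norm zero of an injective sheaf is a difference. -/
theorem exists_sub_eq (J : EtCoh.Ab (Spec (CommRingCat.of K))) [Injective J]
    (z : EtCoh.sect J (specObj K N)) (hz : ∑ g : N ≃ₐ[K] N, J.obj.map (specMap g.toAlgHom).op z = 0)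
    {σ : N ≃ₐ[K] N} (hσ : ∀ g, g ∈ Subgroup.zpowers σ) :
    ∃ u : EtCoh.sect J (specObj K N), J.obj.map (specMap σ.toAlgHom).op u - u = z := by
  let T := (Spec (CommRingCat.of K)).smallEtaleTopology
  let a := presheafToSheaf T AddCommGrpCat.{u + 1}
  let adj := sheafificationAdjunction T AddCommGrpCat.{u + 1}
  have : (sheafToPresheaf T AddCommGrpCat.{u + 1}).Additive := ⟨fun {_ _ _ _} => rfl⟩
  have : a.Additive := adj.left_adjoint_additive
  let φp : freePre (K := K) N ⟶ freePre N := freeAct σ - 𝟙 _
  let φ := a.map φp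
  let zb : a.obj (freePre N) ⟶ J := (adj.homEquiv _ _).symm (freeEval z)
  have h0 : kernel.ι φp ≫ freeEval z = 0 := by
    refine NatTrans.ext (funext fun U => ConcreteCategory.hom_ext _ _ fun y => ?_)
    refine freeEval_eq_zero z hz hσ U.unop ((kernel.ι φp).app U y) ?_
    have h := ConcreteCategory.congr_hom (NatTrans.congr_app (kernel.condition φp) U) y
    exact sub_eq_zero.1 h
  have hker : kernel.ι φ ≫ zb = 0 := by
    rw [← cancel_epi (PreservesKernel.iso a φp).hom]
    rw [comp_zero, PreservesKernel.iso_hom, kernelComparison_comp_ι_assoc]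
    show a.map (kernel.ι φp) ≫ (adj.homEquiv _ _).symm (freeEval z) = 0
    rw [← Adjunction.homEquiv_naturality_left_symm, h0]
    exact adj.homAddEquiv_symm_zero _ _
  have : Mono (Abelian.factorThruCoimage φ) := inferInstance
  let u' := Injective.factorThru (cokernel.desc _ zb hker) (Abelian.factorThruCoimage φ)
  have hu : φ ≫ u' = zb := by
    conv_lhs => rw [← Abelian.coimage.fac φ]
    rw [Category.assoc, Injective.comp_factorThru]
    exact cokernel.π_desc _ _ _
  let up : freePre (K := K) N ⟶ J.obj := adj.homEquiv _ _ u'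
  have hup : φp ≫ up = freeEval z := by
    rw [← adj.homEquiv_naturality_left, hu, Equiv.apply_symm_apply]
  let e : (freePre (K := K) N).obj (op (specObj K N)) := Finsupp.single (ULift.up (𝟙 _)) 1
  refine ⟨up.app _ e, ?_⟩
  have h1 := ConcreteCategory.congr_hom (NatTrans.congr_app hup (op (specObj K N))) e
  have h2 : (freeEval z).app (op (specObj K N)) e = z := by
    refine (evalHom_single z _ _ _).trans ((one_zsmul _).trans ?_)
    exact ConcreteCategory.congr_hom (J.obj.map_id _) z
  have h3 : (freeAct σ).app (op (specObj K N)) e = (freePre N).map (specMap σ.toAlgHom).op e := by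
    refine (Finsupp.mapDomain_single).trans (Eq.trans ?_ Finsupp.mapDomain_single.symm)
    exact congrArg (fun q => Finsupp.single (ULift.up q) 1)
      ((Category.id_comp _).trans (Category.comp_id _).symm)
  refine Eq.trans ?_ (h1.trans h2)
  show _ = up.app _ ((freeAct σ).app _ e - e)
  rw [map_sub, h3, NatTrans.naturality_apply up]

end Groth.Agent.HL47
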